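import Mathlib
import Groth.Agent.VarDim.Basic

/-!
# Finiteness over the subring generated by linear forms

If all monomials of some degree lie, up to the factor `g`, in the ideal generated by forms `G` and
linear forms `y`, then modulo `G` everything is integral over the polynomials in `y`, up to powers
of `g`.
-/

noncomputable section

namespace Groth.Agent.LefCodim

open MvPolynomial

universe u

variable {R : Type u} [CommRing R] {m : ℕ}

theorem homogeneousComponent_mul_isHomogeneous {G : MvPolynomial (Fin m) R} {e : ℕ}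
    (hG : G.IsHomogeneous e) (h : MvPolynomial (Fin m) R) (M : ℕ) :
    homogeneousComponent M (h * G) = if e ≤ M then homogeneousComponent (M - e) h * G else 0 := by
  have key : ∀ {p : MvPolynomial (Fin m) R} {i : ℕ}, p.IsHomogeneous i →
      homogeneousComponent M (p * G) = if i + e = M then p * G else 0 := fun {p i} hp => by
    rw [homogeneousComponent_of_mem ((mem_homogeneousSubmodule _ _).2 (hp.mul hG))]
    congr 1
    exact propext eq_comm
  split_ifs with he
  · conv_lhs => rw [← sum_homogeneousComponent h, Finset.sum_mul, map_sum]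
    rw [Finset.sum_congr rfl fun i _ => key (homogeneousComponent_isHomogeneous i h)]
    rw [Finset.sum_eq_single (M - e)]
    · rw [if_pos (by omega)]
    · intro i _ hi
      rw [if_neg (by omega)]
    · intro hM
      rw [if_pos (by omega), homogeneousComponent_eq_zero _ _ (by
        simp only [Finset.mem_range, not_lt] at hM
        omega), zero_mul]
  · conv_lhs => rw [← sum_homogeneousComponent h, Finset.sum_mul, map_sum]
    refine Finset.sum_eq_zero fun i _ => ?_
    rw [key (homogeneousComponent_isHomogeneous i h), if_neg (by omega)]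

theorem exists_le_degree : ∀ (N : ℕ) (α : Fin m →₀ ℕ), N ≤ α.degree →
    ∃ α', α' ≤ α ∧ α'.degree = N := by
  classical
  intro N
  induction N with
  | zero => exact fun α _ => ⟨0, zero_le, map_zero _⟩
  | succ N ih =>
    intro α h
    obtain ⟨α', hle, hdeg⟩ := ih α (by omega)
    obtain ⟨i, hi⟩ : ∃ i, α' i < α i := by
      by_contra! hall
      have e : α = α' := le_antisymm (fun i => hall i) hle
      rw [e] at h
      omega
    refine ⟨α' + Finsupp.single i 1, fun j => ?_, by rw [map_add, hdeg, Finsupp.degree_single]⟩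
    by_cases hj : j = i
    · subst hj; simp; omega
    · simp [Finsupp.single_eq_of_ne hj]; exact hle j

variable [IsNoetherianRing R] {n : ℕ} {ι : Type*} (G : ι → MvPolynomial (Fin m) R)
  (y : Fin n → MvPolynomial (Fin m) R) (g : R) (M₀ : ℕ)

/-- The hypothesis: monomials of degree `M₀` lie in the ideal, up to `g`. -/
def Spans : Prop :=
  1 ≤ M₀ ∧ ∀ α : Fin m →₀ ℕ, α.degree = M₀ → ∃ h : Fin n → MvPolynomial (Fin m) R,
    (∀ l, (h l).IsHomogeneous (M₀ - 1)) ∧
      C g * monomial α 1 - ∑ l, h l * y l ∈ Ideal.span (Set.range G)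

theorem exists_monic (hS : Spans G y g M₀) (r : MvPolynomial (Fin m) R) {e : ℕ}
    (hr : r.totalDegree ≤ e) :
    ∃ P : Polynomial (MvPolynomial (Fin n) R), P.Monic ∧
      P.eval₂ (aeval y : MvPolynomial (Fin n) R →ₐ[R] MvPolynomial (Fin m) R).toRingHom (C g ^ e * r) ∈
        Ideal.span (Set.range G) := by
  classical
  obtain ⟨hM, hS⟩ := hS
  set I := Ideal.span (Set.range G)
  let ψ : MvPolynomial (Fin n) R →+* MvPolynomial (Fin m) R ⧸ I :=
    (Ideal.Quotient.mk I).comp (aeval y : MvPolynomial (Fin n) R →ₐ[R] MvPolynomial (Fin m) R).toRingHom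
  letI : Algebra (MvPolynomial (Fin n) R) (MvPolynomial (Fin m) R ⧸ I) := ψ.toAlgebra
  have hsmul : ∀ (a : MvPolynomial (Fin n) R) (p : MvPolynomial (Fin m) R),
      a • Ideal.Quotient.mk I p = Ideal.Quotient.mk I (aeval y a * p) := fun a p => by
    rw [map_mul]; rfl
  let gens : Finset (Fin m →₀ ℕ) := (Finset.range M₀).biUnion fun t => Finset.finsuppAntidiag Finset.univ t
  have hgens : ∀ γ : Fin m →₀ ℕ, γ.degree < M₀ → γ ∈ gens := fun γ h =>
    Finset.mem_biUnion.2 ⟨γ.degree, Finset.mem_range.2 h, Finset.mem_finsuppAntidiag.2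
      ⟨(Finsupp.degree_eq_sum γ).symm, by simp⟩⟩
  let N : Submodule (MvPolynomial (Fin n) R) (MvPolynomial (Fin m) R ⧸ I) :=
    Submodule.span _ ((fun γ => Ideal.Quotient.mk I (monomial γ 1)) '' (gens : Set _))
  have hlow : ∀ γ : Fin m →₀ ℕ, γ.degree < M₀ → Ideal.Quotient.mk I (monomial γ 1) ∈ N := fun γ h =>
    Submodule.subset_span ⟨γ, hgens γ h, rfl⟩
  have hC : ∀ (a : R) {p : MvPolynomial (Fin m) R}, Ideal.Quotient.mk I p ∈ N →
      Ideal.Quotient.mk I (C a * p) ∈ N := fun a p hp => by
    have h : C a • Ideal.Quotient.mk I p ∈ N := N.smul_mem (C a) hp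
    rw [hsmul] at h
    simpa using h
  -- powers of `g` push every polynomial into `N`
  have hmem : ∀ t (p : MvPolynomial (Fin m) R), p.totalDegree ≤ M₀ - 1 + t →
      Ideal.Quotient.mk I (C g ^ t * p) ∈ N := by
    intro t
    induction t with
    | zero =>
      intro p hp
      rw [pow_zero, one_mul, p.as_sum, map_sum]
      refine N.sum_mem fun γ hγ => ?_
      rw [← mul_one (coeff γ p), ← C_mul_monomial]
      refine hC _ (hlow γ ?_)
      have := le_totalDegree hγ
      have : γ.degree = γ.sum fun _ e => e := rfl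
      omega
    | succ t ih =>
      intro p hp
      rw [p.as_sum, Finset.mul_sum, map_sum]
      refine N.sum_mem fun γ hγ => ?_
      have hdeg : γ.degree ≤ M₀ - 1 + (t + 1) := (le_totalDegree hγ).trans hp
      rw [← mul_one (coeff γ p), ← C_mul_monomial, mul_left_comm]
      refine hC _ ?_
      by_cases hlt : γ.degree < M₀
      · rw [← map_pow]
        exact hC _ (hlow γ hlt)
      obtain ⟨α', hle, hα'⟩ := exists_le_degree M₀ γ (by omega)
      obtain ⟨h, hh, hrel⟩ := hS α' hα'
      have hsplit : monomial γ (1 : R) = monomial α' 1 * monomial (γ - α') 1 := by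
        rw [monomial_mul, mul_one, add_tsub_cancel_of_le hle]
      have e : Ideal.Quotient.mk I (C g ^ (t + 1) * monomial γ 1) =
          ∑ l, (X l : MvPolynomial (Fin n) R) •
            Ideal.Quotient.mk I (C g ^ t * (h l * monomial (γ - α') 1)) := by
        simp only [hsmul, aeval_X, ← map_sum]
        rw [Ideal.Quotient.eq]
        have := I.mul_mem_left (C g ^ t * monomial (γ - α') 1) hrel
        convert this using 1
        rw [hsplit, mul_sub, Finset.mul_sum]
        congr 1
        · ring
        · exact Finset.sum_congr rfl fun l _ => by ring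
      rw [e]
      refine N.sum_mem fun l _ => N.smul_mem _ (ih _ ?_)
      refine (totalDegree_mul _ _).trans ?_
      have h1 := (hh l).totalDegree_le
      have h2 : (monomial (γ - α') (1 : R)).totalDegree ≤ t := by
        refine (totalDegree_monomial_le _ _).trans ?_
        have hd : (γ - α').degree + α'.degree = γ.degree := by
          rw [← map_add, tsub_add_cancel_of_le hle]
        change (γ - α').degree ≤ t
        omega
      omega
  set u := Ideal.Quotient.mk I (C g ^ e * r)
  have hu : ∀ z ∈ N, u * z ∈ N := by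
    intro z hz
    induction hz using Submodule.span_induction with
    | mem z hz =>
      obtain ⟨γ, hγ, rfl⟩ := hz
      rw [← map_mul, mul_assoc]
      refine hmem e _ ((totalDegree_mul _ _).trans ?_)
      have h2 : (monomial γ (1 : R)).totalDegree ≤ M₀ - 1 := by
        refine (totalDegree_monomial_le _ _).trans ?_
        obtain ⟨t, ht, hγt⟩ := Finset.mem_biUnion.1 hγ
        rw [Finset.mem_range] at ht
        rw [Finset.mem_finsuppAntidiag, ← Finsupp.degree_eq_sum] at hγt
        change γ.degree ≤ M₀ - 1
        omega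
      omega
    | zero => rw [mul_zero]; exact N.zero_mem
    | add a b _ _ ha hb => rw [mul_add]; exact N.add_mem ha hb
    | smul a z _ hz => rw [mul_smul_comm]; exact N.smul_mem a hz
  have hpow : ∀ i : ℕ, u ^ i ∈ N := by
    intro i
    induction i with
    | zero =>
      rw [pow_zero]
      have := hlow 0 (by rw [map_zero]; omega)
      rwa [monomial_zero', map_one, map_one] at this
    | succ i ih => rw [pow_succ']; exact hu _ ih
  have hint : IsIntegral (MvPolynomial (Fin n) R) u := by
    refine IsIntegral.of_mem_of_fg (Algebra.adjoin _ {u}) ?_ u (Algebra.self_mem_adjoin_singleton _ u)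
    have hle : Subalgebra.toSubmodule (Algebra.adjoin (MvPolynomial (Fin n) R) {u}) ≤ N := by
      rw [Algebra.adjoin_eq_span, Submodule.span_le]
      intro z hz
      obtain ⟨i, rfl⟩ := Submonoid.mem_closure_singleton.1 hz
      exact hpow i
    haveI : IsNoetherian (MvPolynomial (Fin n) R) N :=
      isNoetherian_of_fg_of_noetherian N (Submodule.fg_span (gens.finite_toSet.image _))
    exact (isNoetherian_submodule.1 inferInstance) _ hle
  obtain ⟨P, hP, hP0⟩ := hint
  refine ⟨P, hP, Ideal.Quotient.eq_zero_iff_mem.1 ?_⟩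
  rw [Polynomial.hom_eval₂]
  exact hP0

/-- Over a field this bounds the dimension. -/
theorem ringKrullDim_le {k : Type u} [Field k] (G : ι → MvPolynomial (Fin m) k)
    (y : Fin n → MvPolynomial (Fin m) k) (hS : Spans G y 1 M₀) :
    ringKrullDim (MvPolynomial (Fin m) k ⧸ Ideal.span (Set.range G)) ≤ n := by
  set I := Ideal.span (Set.range G)
  let φ : MvPolynomial (Fin n) k →ₐ[k] MvPolynomial (Fin m) k ⧸ I :=
    (Ideal.Quotient.mkₐ k I).comp (aeval y)
  let A := MvPolynomial (Fin n) k ⧸ RingHom.ker φ.toRingHom
  letI : Algebra A (MvPolynomial (Fin m) k ⧸ I) := (RingHom.kerLift φ.toRingHom).toAlgebra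
  haveI : FaithfulSMul A (MvPolynomial (Fin m) k ⧸ I) :=
    (faithfulSMul_iff_algebraMap_injective _ _).2 (RingHom.kerLift_injective _)
  haveI : Algebra.IsIntegral A (MvPolynomial (Fin m) k ⧸ I) := by
    refine ⟨fun a => ?_⟩
    obtain ⟨r, rfl⟩ := Ideal.Quotient.mk_surjective a
    obtain ⟨P, hP, hP0⟩ := exists_monic G y 1 M₀ hS r le_rfl
    rw [map_one, one_pow, one_mul] at hP0
    refine ⟨P.map (Ideal.Quotient.mk (RingHom.ker φ.toRingHom)), hP.map _, ?_⟩
    rw [Polynomial.eval₂_map, show (algebraMap A (MvPolynomial (Fin m) k ⧸ I)).comp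
        (Ideal.Quotient.mk (RingHom.ker φ.toRingHom)) =
        (Ideal.Quotient.mk I).comp (aeval y : MvPolynomial (Fin n) k →ₐ[k] MvPolynomial (Fin m) k).toRingHom
      from RingHom.ext fun _ => rfl, ← Polynomial.hom_eval₂]
    exact Ideal.Quotient.eq_zero_iff_mem.2 hP0
  rw [VarDim.ringKrullDim_eq_of_isIntegral (R := A)]
  refine (ringKrullDim_quotient_le _).trans (le_of_eq ?_)
  rw [MvPolynomial.ringKrullDim_of_isNoetherianRing, ringKrullDim_eq_zero_of_field, zero_add,
    Nat.card_eq_fintype_card, Fintype.card_fin]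

end Groth.Agent.LefCodim
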