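import Mathlib
import Groth.Agent.VarDim.Basic
import Groth.Prelude.Def_W4c2ratcurvhypCodim

/-!
# Small subsets of affine space

A subset of `σ → k` is small of dimension `≤ e` when every prime ideal of polynomials containing its
vanishing ideal has coordinate ring of transcendence degree at most `e`.
-/

noncomputable section

namespace Groth.Agent.LefCodim

open MvPolynomial Cardinal

universe u

variable {k : Type u} [Field k] {σ τ : Type} [Fintype σ] [Fintype τ]

/-- The ideal of polynomials vanishing on a set. -/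
def vanish (D : Set (σ → k)) : Ideal (MvPolynomial σ k) where
  carrier := {f | ∀ x ∈ D, eval x f = 0}
  zero_mem' := fun _ _ => map_zero _
  add_mem' {f g} hf hg x hx := by rw [map_add, hf x hx, hg x hx, add_zero]
  smul_mem' c f hf x hx := by rw [smul_eq_mul, map_mul, hf x hx, mul_zero]

theorem mem_vanish {D : Set (σ → k)} {f : MvPolynomial σ k} :
    f ∈ vanish D ↔ ∀ x ∈ D, eval x f = 0 := Iff.rfl

theorem radical_vanish (D : Set (σ → k)) : (vanish D).radical = vanish D := by
  refine le_antisymm ?_ Ideal.le_radical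
  rintro f ⟨n, hn⟩ x hx
  have h := hn x hx
  rw [map_pow] at h
  exact eq_zero_of_pow_eq_zero h

/-- Dimension at most `e`. -/
def SmallSet (D : Set (σ → k)) (e : ℕ) : Prop :=
  ∀ P : Ideal (MvPolynomial σ k), P.IsPrime → vanish D ≤ P →
    Algebra.trdeg k (MvPolynomial σ k ⧸ P) ≤ e

omit [Fintype σ] in
theorem trdeg_quot_mono {P Q : Ideal (MvPolynomial σ k)} (h : P ≤ Q) :
    Algebra.trdeg k (MvPolynomial σ k ⧸ Q) ≤ Algebra.trdeg k (MvPolynomial σ k ⧸ P) :=
  trdeg_le_of_surjective (Ideal.Quotient.factorₐ k h) (Ideal.Quotient.factor_surjective h)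

theorem SmallSet.mono {D D' : Set (σ → k)} {e e' : ℕ} (h : SmallSet D e) (hD : D' ⊆ D) (he : e ≤ e') :
    SmallSet D' e' := fun P hP hle =>
  (h P hP ((show vanish D ≤ vanish D' from fun _ hf x hx => hf x (hD hx)).trans hle)).trans (Nat.cast_le.2 he)

theorem smallSet_empty : SmallSet (∅ : Set (σ → k)) 0 := fun P hP hle =>
  absurd (hle (show (1 : MvPolynomial σ k) ∈ vanish ∅ from fun _ h => h.elim))
    ((Ideal.ne_top_iff_one _).1 hP.ne_top)

theorem SmallSet.union {D E : Set (σ → k)} {e : ℕ} (hD : SmallSet D e) (hE : SmallSet E e) :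
    SmallSet (D ∪ E) e := by
  intro P hP hle
  have h : vanish D ⊓ vanish E ≤ P := fun f hf => hle fun x hx => hx.elim (hf.1 x) (hf.2 x)
  rcases hP.inf_le.1 h with h' | h'
  exacts [hD P hP h', hE P hP h']

theorem SmallSet.iUnion {ι : Type*} (s : Finset ι) {D : ι → Set (σ → k)} {e : ℕ}
    (h : ∀ i ∈ s, SmallSet (D i) e) : SmallSet (⋃ i ∈ s, D i) e := by
  classical
  induction s using Finset.induction_on with
  | empty => simpa using smallSet_empty.mono subset_rfl (Nat.zero_le e)
  | insert a s ha ih =>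
    rw [Finset.set_biUnion_insert]
    exact (h a (Finset.mem_insert_self a s)).union (ih fun i hi => h i (Finset.mem_insert_of_mem hi))

omit [Fintype σ] in
theorem adjoin_mk (P : Ideal (MvPolynomial σ k)) :
    Algebra.adjoin k (Set.range fun i => Ideal.Quotient.mkₐ k P (X i)) = ⊤ := by
  rw [show Set.range (fun i => Ideal.Quotient.mkₐ k P (X i)) = Ideal.Quotient.mkₐ k P '' Set.range X
    from Set.range_comp _ _, ← AlgHom.map_adjoin, adjoin_range_X, Algebra.map_top]
  exact (AlgHom.range_eq_top _).2 (Ideal.Quotient.mkₐ_surjective k P)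

theorem trdeg_le_card (P : Ideal (MvPolynomial σ k)) :
    Algebra.trdeg k (MvPolynomial σ k ⧸ P) ≤ Fintype.card σ :=
  (trdeg_le_of_surjective _ (Ideal.Quotient.mkₐ_surjective k P)).trans (by
    rw [MvPolynomial.trdeg_of_isDomain]; simp)

theorem smallSet_univ : SmallSet (Set.univ : Set (σ → k)) (Fintype.card σ) := fun P _ _ => trdeg_le_card P

/-- Products with an affine space. -/
theorem SmallSet.prod {D : Set (σ → k)} {e : ℕ} (h : SmallSet D e) :
    SmallSet {x : σ ⊕ τ → k | (fun i => x (Sum.inl i)) ∈ D} (e + Fintype.card τ) := by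
  classical
  intro P hP hle
  let r : MvPolynomial σ k →ₐ[k] MvPolynomial (σ ⊕ τ) k := rename Sum.inl
  let P₀ := P.comap r
  have hP₀ : P₀.IsPrime := Ideal.IsPrime.comap _
  have h₀ : vanish D ≤ P₀ := fun f hf => hle fun x hx => by
    rw [eval_rename]
    exact hf _ hx
  have hb := h P₀ hP₀ h₀
  haveI := hP
  haveI := hP₀
  set A := MvPolynomial (σ ⊕ τ) k ⧸ P
  set c : σ ⊕ τ → A := fun i => Ideal.Quotient.mkₐ k P (X i)
  haveI : Algebra.IsAlgebraic ↥(Algebra.adjoin k (Set.range c)) A :=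
    ⟨fun a => isAlgebraic_algebraMap
      (⟨a, (adjoin_mk P).symm ▸ Algebra.mem_top⟩ : ↥(Algebra.adjoin k (Set.range c)))⟩
  obtain ⟨t, hts, ht⟩ := exists_isTranscendenceBasis_subset (R := k) (Set.range c)
  rw [← ht.cardinalMk_eq_trdeg]
  let φ : (MvPolynomial σ k ⧸ P₀) →ₐ[k] A := Ideal.quotientMapₐ P r le_rfl
  have hφ : Function.Injective φ := Ideal.quotientMap_injective
  set t₁ := t ∩ Set.range (c ∘ Sum.inl)
  have ht₁ : #t₁ ≤ (e : Cardinal) := by
    refine le_trans ?_ hb
    have hpre : ∀ a : t₁, ∃ b, φ b = a.1 := fun ⟨a, _, i, hi⟩ =>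
      ⟨Ideal.Quotient.mkₐ k P₀ (X i), (show φ (Ideal.Quotient.mkₐ k P₀ (X i)) = c (Sum.inl i) by
        show Ideal.Quotient.mk P (r (X i)) = _
        simp [r, c]).trans hi⟩
    choose b hb' using hpre
    have hind : AlgebraicIndependent k b := by
      refine AlgebraicIndependent.of_comp φ ?_
      rw [show φ ∘ b = fun a : t₁ => (a : A) from funext hb']
      exact AlgebraicIndependent.mono Set.inter_subset_left ht.1
    exact hind.cardinalMk_le_trdeg
  have ht₂ : #(t ∩ Set.range (c ∘ Sum.inr) : Set A) ≤ (Fintype.card τ : Cardinal) := by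
    refine (mk_le_mk_of_subset Set.inter_subset_right).trans ?_
    have h := Cardinal.mk_range_le_lift (f := c ∘ Sum.inr)
    simpa using h
  calc #t ≤ #(t₁ ∪ t ∩ Set.range (c ∘ Sum.inr) : Set A) := mk_le_mk_of_subset fun a ha => by
        obtain ⟨i | i, rfl⟩ := hts ha
        exacts [Or.inl ⟨ha, i, rfl⟩, Or.inr ⟨ha, i, rfl⟩]
    _ ≤ #t₁ + #(t ∩ Set.range (c ∘ Sum.inr) : Set A) := mk_union_le _ _
    _ ≤ e + Fintype.card τ := add_le_add ht₁ ht₂
    _ = ((e + Fintype.card τ : ℕ) : Cardinal) := (Nat.cast_add _ _).symm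

/-- Polynomial images. -/
theorem SmallSet.image {D : Set (σ → k)} {e : ℕ} (h : SmallSet D e) (φ : τ → MvPolynomial σ k)
    {D' : Set (τ → k)} (hD : ∀ y ∈ D', ∃ x ∈ D, ∀ j, y j = eval x (φ j)) : SmallSet D' e := by
  classical
  intro P hP hle
  haveI := hP
  let ψ : MvPolynomial τ k →ₐ[k] MvPolynomial σ k := aeval φ
  have hcomp : ∀ (x : σ → k) (f : MvPolynomial τ k), eval x (ψ f) = eval (fun j => eval x (φ j)) f := by
    intro x f
    induction f using MvPolynomial.induction_on with
    | C a => simp [ψ]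
    | add p q hp hq => simp only [map_add, hp, hq]
    | mul_X p i hp => simp only [map_mul, hp]; simp [ψ]
  have hle' : (vanish D).comap ψ ≤ P := fun f hf => hle fun y hy => by
    obtain ⟨x, hx, hxy⟩ := hD y hy
    rw [show y = fun j => eval x (φ j) from funext hxy, ← hcomp]
    exact hf x hx
  have hfin := (vanish D).finite_minimalPrimes_of_isNoetherianRing
  have hinf : hfin.toFinset.inf (fun Q => Q.comap ψ) ≤ P := fun f hf => hle' (by
    have h1 : ψ f ∈ (vanish D).radical := by
      rw [← Ideal.sInf_minimalPrimes, Submodule.mem_sInf]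
      intro Q hQ
      exact (Submodule.mem_finsetInf.1 hf) Q (hfin.mem_toFinset.2 hQ)
    rwa [radical_vanish] at h1)
  obtain ⟨Q, hQ, hQP⟩ := hP.inf_le'.1 hinf
  have hQ' := hfin.mem_toFinset.1 hQ
  haveI := hQ'.1.1
  calc Algebra.trdeg k (MvPolynomial τ k ⧸ P) ≤ Algebra.trdeg k (MvPolynomial τ k ⧸ Q.comap ψ) :=
        trdeg_quot_mono hQP
    _ ≤ Algebra.trdeg k (MvPolynomial σ k ⧸ Q) :=
        trdeg_le_of_injective (Ideal.quotientMapₐ Q ψ le_rfl) Ideal.quotientMap_injective
    _ ≤ e := h Q hQ'.1.1 hQ'.1.2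

/-- The algebraicity criterion: on `D`, where `g` does not vanish, every coordinate is a combination
of the coordinates in `S` and of functions satisfying monic equations over these. -/
theorem smallSet_of_algebraic {D : Set (σ → k)} {S : Finset σ} {e : ℕ} (hS : S.card ≤ e)
    {g : MvPolynomial σ k} (hg : ∀ x ∈ D, eval x g ≠ 0)
    (hgS : g ∈ Algebra.adjoin k (X '' (S : Set σ))) {A : Type*} (f : A → MvPolynomial σ k)
    (hf : ∀ a, ∃ (n M : ℕ) (c : Fin n → MvPolynomial σ k),
      (∀ i, c i ∈ Algebra.adjoin k (X '' (S : Set σ))) ∧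
        ∀ x ∈ D, eval x g ^ M * eval x (f a) ^ n + ∑ i : Fin n, eval x (c i) * eval x (f a) ^ (i : ℕ) = 0)
    (hgen : ∀ s, X s ∈ Algebra.adjoin k (X '' (S : Set σ) ∪ Set.range f)) : SmallSet D e := by
  classical
  intro P hP hle
  haveI := hP
  obtain ⟨Q, hQ, hQP⟩ := Ideal.exists_minimalPrimes_le hle
  refine (trdeg_quot_mono hQP).trans ?_
  haveI := hQ.1.1
  have hgQ : g ∉ Q := fun hgQ => by
    obtain ⟨y, hy, hgy⟩ : ∃ y, y ∉ vanish D ∧ g * y ∈ vanish D := by
      have hfin := (vanish D).finite_minimalPrimes_of_isNoetherianRing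
      obtain ⟨y, hy1, hy2⟩ : ∃ y, y ∈ (hfin.toFinset.erase Q).inf id ∧ y ∉ Q := by
        by_contra! hall
        obtain ⟨Q', hQ', hQ'Q⟩ := hQ.1.1.inf_le'.1 (show (hfin.toFinset.erase Q).inf id ≤ Q from hall)
        rw [Finset.mem_erase, hfin.mem_toFinset] at hQ'
        exact hQ'.1 (le_antisymm hQ'Q (hQ.2 hQ'.2.1 hQ'Q))
      refine ⟨y, fun h => hy2 (hQ.1.2 h), ?_⟩
      rw [← radical_vanish, ← Ideal.sInf_minimalPrimes, Submodule.mem_sInf]
      intro Q' hQ'
      by_cases e : Q' = Q
      · subst e; exact Ideal.mul_mem_right _ _ hgQ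
      · exact Ideal.mul_mem_left _ _ ((Submodule.mem_finsetInf.1 hy1) Q'
          (Finset.mem_erase.2 ⟨e, hfin.mem_toFinset.2 hQ'⟩))
    refine hy fun x hx => ?_
    have h := hgy x hx
    rw [map_mul] at h
    exact (mul_eq_zero.1 h).resolve_left (hg x hx)
  set π := Ideal.Quotient.mkₐ k Q
  set s₀ : Set (MvPolynomial σ k ⧸ Q) := (fun i => π (X i)) '' (S : Set σ)
  have hπS : ∀ z ∈ Algebra.adjoin k (X '' (S : Set σ)), π z ∈ Algebra.adjoin k s₀ := fun z hz => by
    have h : π z ∈ (Algebra.adjoin k (X '' (S : Set σ))).map π := ⟨z, hz, rfl⟩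
    rwa [AlgHom.map_adjoin, Set.image_image] at h
  haveI hbase : Algebra.IsAlgebraic ↥(Algebra.adjoin k s₀) (MvPolynomial σ k ⧸ Q) := by
    let R := Algebra.adjoin k s₀
    let C := Subalgebra.algebraicClosure R (MvPolynomial σ k ⧸ Q)
    suffices hall : ∀ z, π z ∈ C by
      refine ⟨fun a => ?_⟩
      obtain ⟨z, rfl⟩ := Ideal.Quotient.mkₐ_surjective k Q a
      exact hall z
    have hX : ∀ z ∈ Algebra.adjoin k (X '' (S : Set σ) ∪ Set.range f), π z ∈ C := by
      intro z hz
      induction hz using Algebra.adjoin_induction with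
      | mem z hz =>
        rcases hz with hz | ⟨a, rfl⟩
        · exact isAlgebraic_algebraMap (⟨π z, hπS z (Algebra.subset_adjoin hz)⟩ : R)
        · obtain ⟨n, M, c, hc, hrel⟩ := hf a
          let p : Polynomial R := Polynomial.C (⟨π g, hπS g hgS⟩ ^ M) * Polynomial.X ^ n +
            ∑ i : Fin n, Polynomial.C (⟨π (c i), hπS _ (hc i)⟩ : R) * Polynomial.X ^ (i : ℕ)
          refine ⟨p, fun h0 => ?_, ?_⟩
          · have h := congrArg (Polynomial.coeff · n) h0
            simp only [p, Polynomial.coeff_add, Polynomial.coeff_C_mul, Polynomial.coeff_X_pow,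
              if_true, mul_one, Polynomial.finsetSum_coeff, Polynomial.coeff_zero] at h
            rw [Finset.sum_eq_zero (fun i _ => by rw [if_neg (by omega), mul_zero]), add_zero] at h
            refine hgQ (Ideal.Quotient.eq_zero_iff_mem.1 ?_)
            exact congrArg Subtype.val (eq_zero_of_pow_eq_zero h)
          · have h : π (g ^ M * f a ^ n + ∑ i : Fin n, c i * f a ^ (i : ℕ)) = 0 :=
              Ideal.Quotient.eq_zero_iff_mem.2 (hQ.1.2 fun x hx => by simpa using hrel x hx)
            rw [← h]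
            simp [p]
      | algebraMap r => exact isAlgebraic_algebraMap (⟨π (algebraMap k _ r), by
          rw [AlgHom.commutes]; exact Subalgebra.algebraMap_mem _ r⟩ : R)
      | add x y _ _ hx hy => rw [map_add]; exact C.add_mem hx hy
      | mul x y _ _ hx hy => rw [map_mul]; exact C.mul_mem hx hy
    intro z
    induction z using MvPolynomial.induction_on with
    | C r => exact hX _ (Subalgebra.algebraMap_mem _ r)
    | add p q hp hq => rw [map_add]; exact C.add_mem hp hq
    | mul_X p i hp => rw [map_mul]; exact C.mul_mem hp (hX _ (hgen i))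
  refine (Algebra.IsAlgebraic.trdeg_le_cardinalMk k s₀).trans ?_
  refine le_trans ?_ (Nat.cast_le.2 hS)
  have h := Cardinal.mk_image_le_lift (f := fun i => π (X i)) (s := (S : Set σ))
  simpa using h

/-- Small sets have large codimension. -/
theorem le_height {D : Set (σ → k)} {e c : ℕ} (h : SmallSet D e) (hc : c + e ≤ Fintype.card σ) :
    (c : ℕ∞) ≤ (vanish D).height := by
  classical
  rw [Ideal.height_eq_inf_minimalPrimes]
  refine le_iInf₂ fun P hP => ?_
  haveI := hP.1.1
  obtain ⟨N, hN, -⟩ := VarDim.exists_dim_eq_trdeg k (MvPolynomial σ k)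
  have hNσ : N = Fintype.card σ := by
    have h' : ringKrullDim (MvPolynomial σ k) = ((Fintype.card σ : ℕ) : WithBot ℕ∞) := by
      rw [MvPolynomial.ringKrullDim_of_isNoetherianRing, ringKrullDim_eq_zero_of_field, zero_add,
        Nat.card_eq_fintype_card]
    rw [hN] at h'
    exact_mod_cast h'
  subst hNσ
  have hsum := VarDim.height_add_coheight_eq k (Fintype.card σ) (MvPolynomial σ k) hN ⟨P, hP.1.1⟩
  obtain ⟨d, hd, hdt⟩ := VarDim.exists_dim_eq_trdeg k (MvPolynomial σ k ⧸ P)
  have hde : d ≤ e := by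
    have := h P hP.1.1 hP.1.2
    rw [hdt] at this
    exact_mod_cast this
  have hco := VarDim.coheight_eq_ringKrullDim_quotient (⟨P, hP.1.1⟩ : PrimeSpectrum (MvPolynomial σ k))
  rw [hd] at hco
  have hco' : Order.coheight (⟨P, hP.1.1⟩ : PrimeSpectrum (MvPolynomial σ k)) = (d : ℕ∞) := by
    exact_mod_cast hco
  rw [hco'] at hsum
  have hht : Order.height (⟨P, hP.1.1⟩ : PrimeSpectrum (MvPolynomial σ k)) = ((Fintype.card σ - d : ℕ) : ℕ∞) := by
    generalize Order.height (⟨P, hP.1.1⟩ : PrimeSpectrum (MvPolynomial σ k)) = x at hsum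
    cases x with
    | top => simp at hsum
    | coe x => norm_cast at hsum ⊢; omega
  rw [show P = (⟨P, hP.1.1⟩ : PrimeSpectrum (MvPolynomial σ k)).asIdeal from rfl,
    PrimeSpectrum.height_eq_orderHeight, hht]
  exact Nat.cast_le.2 (by omega)

/-- A small set is contained in a hypersurface. -/
theorem exists_nonzero {D : Set (σ → k)} {e : ℕ} (h : SmallSet D e) (he : e < Fintype.card σ) :
    ∃ f : MvPolynomial σ k, f ≠ 0 ∧ ∀ x ∈ D, eval x f = 0 := by
  have h1 := le_height h (c := 1) (by omega)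
  have hne : vanish D ≠ ⊥ := fun e => by
    rw [e, Ideal.height_bot] at h1
    simp at h1
  obtain ⟨f, hf, hf0⟩ := Submodule.exists_mem_ne_zero_of_ne_bot hne
  exact ⟨f, hf0, hf⟩

section Transfer

variable {V : Type u} [AddCommGroup V] [Module k V]

/-- Polynomials as polynomial functions, in linear coordinates. -/
def toFun (φ : V ≃ₗ[k] (σ → k)) : MvPolynomial σ k →ₐ[k] ↥(LefPen.polyFunAlg k V) :=
  aeval fun i => ⟨((LinearMap.proj i).comp φ.toLinearMap : Module.Dual k V),
    Algebra.subset_adjoin ⟨_, rfl⟩⟩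

theorem toFun_apply (φ : V ≃ₗ[k] (σ → k)) (f : MvPolynomial σ k) (v : V) :
    (toFun φ f).1 v = eval (φ v) f := by
  induction f using MvPolynomial.induction_on with
  | C a => simp [toFun]
  | add p q hp hq =>
    rw [map_add, map_add, ← hp, ← hq]
    rfl
  | mul_X p i hp =>
    rw [map_mul, map_mul, ← hp, eval_X]
    show (toFun φ p).1 v * (toFun φ (X i)).1 v = _
    simp [toFun]

theorem toFun_bijective [Infinite k] (φ : V ≃ₗ[k] (σ → k)) : Function.Bijective (toFun φ) := by
  classical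
  refine ⟨fun f g h => MvPolynomial.funext fun x => ?_, fun ⟨F, hF⟩ => ?_⟩
  · have h' := congrArg (fun G : ↥(LefPen.polyFunAlg k V) => G.1 (φ.symm x)) h
    simp only [toFun_apply, LinearEquiv.apply_symm_apply] at h'
    exact h'
  induction hF using Algebra.adjoin_induction with
  | mem F hF =>
    obtain ⟨l, rfl⟩ := hF
    refine ⟨∑ i, C (l (φ.symm (Pi.single i 1))) * X i, Subtype.ext (funext fun v => ?_)⟩
    rw [toFun_apply]
    show _ = l v
    conv_rhs => rw [← φ.symm_apply_apply v, pi_eq_sum_univ' (φ v), map_sum, map_sum]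
    simp [map_sum, map_smul, mul_comm]
  | algebraMap r => exact ⟨C r, Subtype.ext (funext fun v => by simp [toFun_apply])⟩
  | add x y _ _ hx hy =>
    obtain ⟨a, ha⟩ := hx
    obtain ⟨b, hb⟩ := hy
    exact ⟨a + b, by rw [map_add, ha, hb]; rfl⟩
  | mul x y _ _ hx hy =>
    obtain ⟨a, ha⟩ := hx
    obtain ⟨b, hb⟩ := hy
    exact ⟨a * b, by rw [map_mul, ha, hb]; rfl⟩

theorem codimGE_of_small [Infinite k] (φ : V ≃ₗ[k] (σ → k)) {D : Set V} {e c : ℕ}
    (h : SmallSet (φ '' D) e) (hc : c + e ≤ Fintype.card σ) : LefPen.CodimGE k D c := by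
  refine le_trans (le_height h hc) (le_of_eq ?_)
  let E := RingEquiv.ofBijective (toFun φ).toRingHom (toFun_bijective φ)
  rw [← E.height_comap (LefPen.vanishingFun k D)]
  congr 1
  ext f
  simp only [Ideal.mem_comap, mem_vanish, Set.forall_mem_image]
  exact forall₂_congr fun v _ => by rw [← toFun_apply]; rfl

theorem isGeneric_of_small [Infinite k] (φ : V ≃ₗ[k] (σ → k)) {S : Set V} {D : Set (σ → k)} {e : ℕ}
    (h : SmallSet D e) (he : e < Fintype.card σ) (hS : ∀ v, φ v ∉ D → v ∈ S) :
    LefPen.IsGeneric k S := by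
  obtain ⟨f, hf, hfD⟩ := exists_nonzero h he
  refine ⟨(toFun φ f).1, (toFun φ f).2, ?_, fun v hv => hS v fun hmem => hv ?_⟩
  · by_contra! hall
    refine hf ((toFun_bijective φ).1 ?_)
    rw [map_zero]
    exact Subtype.ext (funext hall)
  · rw [toFun_apply]
    exact hfD _ hmem

end Transfer

end Groth.Agent.LefCodim
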