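import Mathlib
import Groth.Agent.LefCodim.Small
import Groth.Agent.LefCodim.Finite
import Groth.Agent.FanoX.Planes

/-!
# Sequences of forms cutting out loci of excess dimension

A point `z` of the space of tuples of forms of degrees `deg i` is good to level `j` with `n` linear
forms when the first `j` forms and `n` suitable linear forms have only the trivial common zero. If a
tuple is good to level `j` with `n + 1` linear forms but not to level `j + 1` with `n`, the next form
is a root of monic equations over the other coordinates, so these tuples form a set of small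
dimension.
-/

noncomputable section

namespace Groth.Agent.LefCodim

open MvPolynomial FanoX.Planes

universe u

variable {k : Type u} [Field k] {m d : ℕ} {deg : Fin d → ℕ}

/-- The coefficient indices of a tuple of forms. -/
abbrev Co (m : ℕ) (deg : Fin d → ℕ) : Type := (i : Fin d) × Ex m (deg i)

/-- The form with given coefficients. -/
def formOf {R : Type*} [CommSemiring R] {e : ℕ} (c : Ex m e → R) : MvPolynomial (Fin (m + 1)) R :=
  ∑ α : Ex m e, C (c α) * monomial (α : Fin (m + 1) →₀ ℕ) 1

theorem degree_ex {e : ℕ} (α : Ex m e) : (α : Fin (m + 1) →₀ ℕ).degree = e := by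
  rw [Finsupp.degree_eq_sum]; exact α.sum_eq

theorem isHomogeneous_formOf {R : Type*} [CommSemiring R] {e : ℕ} (c : Ex m e → R) :
    (formOf c).IsHomogeneous e :=
  IsHomogeneous.sum _ _ _ fun α _ => (isHomogeneous_monomial 1 (degree_ex α)).C_mul _

theorem coeff_formOf {R : Type*} [CommSemiring R] {e : ℕ} (c : Ex m e → R) (α : Ex m e) :
    coeff (α : Fin (m + 1) →₀ ℕ) (formOf c) = c α := by
  simp [formOf, coeff_sum, coeff_monomial, Subtype.coe_inj]

theorem eval_formOf_smul {e : ℕ} (c : Ex m e → k) (t : k) (x : Fin (m + 1) → k) :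
    eval (t • x) (formOf c) = t ^ e * eval x (formOf c) := by
  simp only [formOf, map_sum, map_mul, eval_C, eval_monomial, one_mul, Finset.mul_sum]
  refine Finset.sum_congr rfl fun α _ => ?_
  rw [Finsupp.prod_fintype _ _ fun i => pow_zero _, Finsupp.prod_fintype _ _ fun i => pow_zero _]
  simp only [Pi.smul_apply, smul_eq_mul, mul_pow, Finset.prod_mul_distrib, Finset.prod_pow_eq_pow_sum,
    α.sum_eq]
  ring

theorem map_formOf {R S : Type*} [CommSemiring R] [CommSemiring S] (f : R →+* S) {e : ℕ} (c : Ex m e → R) :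
    map f (formOf c) = formOf fun α => f (c α) := by
  simp [formOf, map_monomial]

theorem eq_formOf {R : Type*} [CommSemiring R] {e : ℕ} (f : MvPolynomial (Fin (m + 1)) R)
    (hf : f.IsHomogeneous e) : f = formOf fun α : Ex m e => coeff (α : Fin (m + 1) →₀ ℕ) f := by
  refine MvPolynomial.ext _ _ fun γ => ?_
  by_cases h : γ.degree = e
  · rw [show γ = ((⟨γ, mem_ex (by rw [← Finsupp.degree_eq_sum, h])⟩ : Ex m e) : Fin (m + 1) →₀ ℕ) from rfl,
      coeff_formOf]
  · rw [hf.coeff_eq_zero h, (isHomogeneous_formOf _).coeff_eq_zero h]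

/-- The linear form with given coefficients. -/
def linF {R : Type*} [CommSemiring R] (v : Fin (m + 1) → R) : MvPolynomial (Fin (m + 1)) R :=
  ∑ a, C (v a) * X a

theorem isHomogeneous_linF {R : Type*} [CommSemiring R] (v : Fin (m + 1) → R) : (linF v).IsHomogeneous 1 :=
  IsHomogeneous.sum _ _ _ fun a _ => (isHomogeneous_X R a).C_mul _

theorem eval_linF (v x : Fin (m + 1) → k) : eval x (linF v) = ∑ a, v a * x a := by
  simp [linF]

/-- The `i`th form of the tuple `z`. -/
def formAt (z : Co m deg → k) (i : Fin d) : MvPolynomial (Fin (m + 1)) k := formOf fun α => z ⟨i, α⟩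

/-- The indices below `j`. -/
abbrev Below (d j : ℕ) : Type := {i : Fin d // (i : ℕ) < j}

/-- Good to level `j` with the linear forms `y`. -/
def GoodWith (deg : Fin d → ℕ) (z : Co m deg → k) (j : ℕ) {n : ℕ} (y : Fin n → Fin (m + 1) → k) : Prop :=
  ∀ x : Fin (m + 1) → k, (∀ i : Fin d, (i : ℕ) < j → eval x (formAt z i) = 0) →
    (∀ l, ∑ a, y l a * x a = 0) → x = 0

/-- Good to level `j` with `n` linear forms. -/
def Good (deg : Fin d → ℕ) (z : Co m deg → k) (j n : ℕ) : Prop :=
  ∃ y : Fin n → Fin (m + 1) → k, GoodWith deg z j y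

theorem good_zero (z : Co m deg → k) : Good deg z 0 (m + 1) :=
  ⟨fun l => Pi.single l 1, fun x _ h => funext fun l => by simpa [Pi.single_apply] using h l⟩

theorem dvd_monomial {R : Type*} [CommRing R] {M : ℕ} {α : Fin (m + 1) →₀ ℕ} (h : (m + 1) * M ≤ α.degree)
    (hM : 1 ≤ M) : ∃ a, X a ^ M ∣ (monomial α (1 : R)) := by
  classical
  obtain ⟨a, ha⟩ : ∃ a, M ≤ α a := by
    by_contra! hall
    rw [Finsupp.degree_eq_sum] at h
    have : ∑ a, α a < ∑ _a : Fin (m + 1), M := Finset.sum_lt_sum_of_nonempty ⟨0, Finset.mem_univ _⟩ fun a _ => hall a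
    simp at this
    omega
  refine ⟨a, monomial (α - Finsupp.single a M) 1, ?_⟩
  rw [X_pow_eq_monomial, monomial_mul, one_mul, add_tsub_cancel_of_le (Finsupp.single_le_iff.2 ha)]

/-- A good tuple spans all monomials of some degree. -/
theorem exists_coeffs [IsAlgClosed k] {ι : Type} [Fintype ι] (G : ι → MvPolynomial (Fin (m + 1)) k)
    {ε : ι → ℕ} (hG : ∀ i, (G i).IsHomogeneous (ε i)) {n : ℕ} (y : Fin n → Fin (m + 1) → k)
    (h : ∀ x : Fin (m + 1) → k, (∀ i, eval x (G i) = 0) → (∀ l, ∑ a, y l a * x a = 0) → x = 0) :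
    ∃ M₀, 1 ≤ M₀ ∧ ∀ α : Fin (m + 1) →₀ ℕ, α.degree = M₀ →
      ∃ (h : ι → MvPolynomial (Fin (m + 1)) k) (h' : Fin n → MvPolynomial (Fin (m + 1)) k),
        (∀ i, ε i ≤ M₀ → (h i).IsHomogeneous (M₀ - ε i)) ∧ (∀ i, M₀ < ε i → h i = 0) ∧
        (∀ l, (h' l).IsHomogeneous (M₀ - 1)) ∧
          monomial α 1 = ∑ i, h i * G i + ∑ l, h' l * linF (y l) := by
  classical
  set gen : ι ⊕ Fin n → MvPolynomial (Fin (m + 1)) k := Sum.elim G fun l => linF (y l)
  set I := Ideal.span (Set.range gen)
  have hzero : ∀ a, (X a : MvPolynomial (Fin (m + 1)) k) ∈ I.radical := fun a => by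
    rw [← vanishingIdeal_zeroLocus_eq_radical (K := k), mem_vanishingIdeal_iff]
    intro x hx
    rw [zeroLocus_span] at hx
    have hx' : ∀ s, eval x (gen s) = 0 := fun s => by
      simpa [aeval_eq_eval] using hx (gen s) ⟨s, rfl⟩
    rw [h x (fun i => hx' (Sum.inl i)) fun l => by
      have := hx' (Sum.inr l)
      simpa [gen, eval_linF] using this]
    simp
  choose N hN using fun a => hzero a
  set M := (Finset.univ.sup N) + 1
  refine ⟨(m + 1) * M, Nat.one_le_iff_ne_zero.2 (by positivity), fun α hα => ?_⟩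
  obtain ⟨a, q, hq⟩ := dvd_monomial (R := k) hα.ge (by omega)
  have hmem : monomial α (1 : k) ∈ I := by
    rw [hq]
    refine I.mul_mem_right _ (I.pow_mem_of_pow_mem (hN a) ?_)
    have := Finset.le_sup (f := N) (Finset.mem_univ a)
    omega
  obtain ⟨c, hc⟩ := Ideal.mem_span_range_iff_exists_fun.1 hmem
  refine ⟨fun i => if ε i ≤ (m + 1) * M then homogeneousComponent ((m + 1) * M - ε i) (c (Sum.inl i)) else 0,
    fun l => homogeneousComponent ((m + 1) * M - 1) (c (Sum.inr l)), fun i hi => ?_, fun i hi => ?_,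
    fun l => homogeneousComponent_isHomogeneous _ _, ?_⟩
  · simp only [if_pos hi]; exact homogeneousComponent_isHomogeneous _ _
  · simp only [if_neg (not_le.2 hi)]
  have e := congrArg (homogeneousComponent ((m + 1) * M)) hc
  rw [homogeneousComponent_of_mem ((mem_homogeneousSubmodule _ _).2 (isHomogeneous_monomial (1 : k) hα)),
    if_pos rfl, map_sum, Fintype.sum_sum_type] at e
  rw [← e]
  congr 1
  · refine Finset.sum_congr rfl fun i _ => ?_
    rw [show gen (Sum.inl i) = G i from rfl, homogeneousComponent_mul_isHomogeneous (hG i)]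
    dsimp only
    split_ifs <;> first | rfl | rw [zero_mul]
  · refine Finset.sum_congr rfl fun l _ => ?_
    rw [show gen (Sum.inr l) = linF (y l) from rfl, homogeneousComponent_mul_isHomogeneous (isHomogeneous_linF _),
      if_pos (by
        have : 1 ≤ (m + 1) * M := Nat.one_le_iff_ne_zero.2 (by positivity)
        omega)]

/-- A good point has a neighbourhood on which the monomials are spanned. -/
theorem exists_g [IsAlgClosed k] {R : Type u} [CommRing R] (ev : R →+* k) (C₀ : k →+* R)
    (hev : ∀ r, ev (C₀ r) = r) {ι : Type} [Fintype ι] {ε : ι → ℕ}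
    (c : ∀ i, Ex m (ε i) → R) {n : ℕ} (y : Fin n → Fin (m + 1) → k)
    (h : ∀ x : Fin (m + 1) → k, (∀ i, eval x (formOf fun α => ev (c i α)) = 0) →
      (∀ l, ∑ a, y l a * x a = 0) → x = 0) :
    ∃ (g : R) (M₀ : ℕ), ev g ≠ 0 ∧
      Spans (fun i => formOf (c i)) (fun l => linF fun a => C₀ (y l a)) g M₀ := by
  classical
  obtain ⟨M₀, hM, hspan⟩ := exists_coeffs (fun i => formOf fun α => ev (c i α))
    (fun i => isHomogeneous_formOf _) y h
  set G : ι → MvPolynomial (Fin (m + 1)) R := fun i => formOf (c i)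
  set Y : Fin n → MvPolynomial (Fin (m + 1)) R := fun l => linF fun a => C₀ (y l a)
  set K := Ideal.span (Set.range G ∪ Set.range Y)
  let mm : Ideal R := RingHom.ker ev
  let π : MvPolynomial (Fin (m + 1)) R →ₗ[R]
      MvPolynomial (Fin (m + 1)) R ⧸ K := (Ideal.Quotient.mkₐ R K).toLinearMap
  have hπdef : ∀ q, π q = Ideal.Quotient.mk K q := fun _ => rfl
  let N : Submodule R (MvPolynomial (Fin (m + 1)) R ⧸ K) :=
    Submodule.span _ (Set.range fun α : Ex m M₀ => π (monomial (α : Fin (m + 1) →₀ ℕ) 1))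
  have hle : N ≤ mm • N := by
    refine Submodule.span_le.2 ?_
    rintro _ ⟨α, rfl⟩
    obtain ⟨p, p', hp, hp0, hp', e⟩ := hspan α (degree_ex α)
    set P : MvPolynomial (Fin (m + 1)) R := monomial (α : Fin (m + 1) →₀ ℕ) 1 -
      (∑ i, map C₀ (p i) * G i + ∑ l, map C₀ (p' l) * Y l) with hPdef
    have hPh : P.IsHomogeneous M₀ := by
      refine (isHomogeneous_monomial _ (degree_ex α)).sub (IsHomogeneous.add
        (IsHomogeneous.sum _ _ _ fun i _ => ?_) (IsHomogeneous.sum _ _ _ fun l _ => ?_))
      · by_cases hi : ε i ≤ M₀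
        · have := ((hp i hi).map C₀).mul (isHomogeneous_formOf (c i))
          rwa [Nat.sub_add_cancel hi] at this
        · rw [hp0 i (not_le.1 hi), map_zero, zero_mul]; exact isHomogeneous_zero _ _ _
      · have := ((hp' l).map C₀).mul
          (isHomogeneous_linF fun a => C₀ (y l a))
        rwa [Nat.sub_add_cancel hM] at this
    have hmap : ∀ q : MvPolynomial (Fin (m + 1)) k, map ev (map C₀ q) = q := fun q => by
      rw [map_map, show ev.comp C₀ = RingHom.id k from RingHom.ext hev, map_id]
    have hPw : map ev P = 0 := by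
      rw [hPdef, map_sub, map_add, map_sum, map_sum, map_monomial, map_one, e, sub_eq_zero]
      refine congrArg₂ (· + ·) (Finset.sum_congr rfl fun i _ => ?_) (Finset.sum_congr rfl fun l _ => ?_)
      · rw [map_mul, hmap, show G i = formOf (c i) from rfl, map_formOf]
      · rw [map_mul, hmap]
        refine congrArg₂ (· * ·) rfl ?_
        simp only [Y, linF, map_sum, map_mul, map_C, map_X, hev]
    have hπ : π (monomial (α : Fin (m + 1) →₀ ℕ) 1) = π P := by
      rw [hπdef, hπdef, Ideal.Quotient.eq]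
      rw [hPdef, sub_sub_cancel]
      exact K.add_mem (K.sum_mem fun i _ => K.mul_mem_left _ (Ideal.subset_span (Or.inl ⟨i, rfl⟩)))
        (K.sum_mem fun l _ => K.mul_mem_left _ (Ideal.subset_span (Or.inr ⟨l, rfl⟩)))
    show π _ ∈ mm • N
    rw [hπ, eq_formOf P hPh]
    simp only [formOf, map_sum, ← smul_eq_C_mul, map_smul]
    refine Submodule.sum_mem _ fun β _ => Submodule.smul_mem_smul ?_ (Submodule.subset_span ⟨β, rfl⟩)
    have := congrArg (coeff (β : Fin (m + 1) →₀ ℕ)) hPw
    rwa [coeff_map, coeff_zero] at this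
  obtain ⟨g, hg, hgN⟩ := Submodule.exists_sub_one_mem_and_smul_eq_zero_of_fg_of_le_smul mm N
    (Submodule.fg_span (Set.finite_range _)) hle
  refine ⟨g, M₀, fun h0 => ?_, hM, fun α hα => ?_⟩
  · have := RingHom.mem_ker.1 hg
    rw [map_sub, h0, map_one] at this
    simp at this
  have hz := hgN _ (Submodule.subset_span ⟨⟨α, mem_ex (by rw [← Finsupp.degree_eq_sum, hα])⟩, rfl⟩)
  rw [← map_smul] at hz
  have hmem : C g * monomial α 1 ∈ K := by
    rw [← smul_eq_C_mul]
    rw [hπdef] at hz
    exact Ideal.Quotient.eq_zero_iff_mem.1 hz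
  rw [show K = Ideal.span (Set.range (Sum.elim G Y)) by rw [Set.Sum.elim_range]] at hmem
  obtain ⟨q, hq⟩ := Ideal.mem_span_range_iff_exists_fun.1 hmem
  refine ⟨fun l => homogeneousComponent (M₀ - 1) (q (Sum.inr l)),
    fun l => homogeneousComponent_isHomogeneous _ _, ?_⟩
  have e := congrArg (homogeneousComponent M₀) hq
  rw [homogeneousComponent_of_mem ((mem_homogeneousSubmodule _ _).2 ((isHomogeneous_monomial (1 : R) hα).C_mul g)),
    if_pos rfl, map_sum, Fintype.sum_sum_type] at e
  rw [← e]
  have eY : ∀ l, homogeneousComponent M₀ (q (Sum.inr l) * Sum.elim G Y (Sum.inr l)) =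
      homogeneousComponent (M₀ - 1) (q (Sum.inr l)) * Y l := fun l => by
    rw [Sum.elim_inr, homogeneousComponent_mul_isHomogeneous (isHomogeneous_linF _), if_pos hM]
  simp only [eY, add_sub_cancel_right]
  refine Ideal.sum_mem _ fun i _ => ?_
  rw [Sum.elim_inl, homogeneousComponent_mul_isHomogeneous (isHomogeneous_formOf _)]
  split_ifs
  · exact Ideal.mul_mem_left _ _ (Ideal.subset_span ⟨i, rfl⟩)
  · exact Ideal.zero_mem _

/-- A nonzero relation between the linear forms lets one drop one of them. -/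
theorem good_of_relation [Infinite k] {z : Co m deg → k} {j j' : ℕ} (hjj : j ≤ j')
    (hpos : ∀ i, 1 ≤ deg i) {n : ℕ} {y : Fin (n + 1) → Fin (m + 1) → k} (hy : GoodWith deg z j y)
    {p : MvPolynomial (Fin (n + 1)) k} (hp : p ≠ 0)
    (hmem : ∀ x : Fin (m + 1) → k, (∀ i : Fin d, (i : ℕ) < j' → eval x (formAt z i) = 0) →
      eval (fun l => ∑ a, y l a * x a) p = 0) :
    Good deg z j' n := by
  classical
  obtain ⟨η, hη⟩ : ∃ η, eval η p ≠ 0 := by
    by_contra! hall
    exact hp (MvPolynomial.funext fun x => by rw [hall x, map_zero])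
  by_cases hη0 : η = 0
  · -- the common zero locus is empty
    exfalso
    refine hη ?_
    have h := hmem 0 fun i _ => by
      rw [formAt, eval_zero, constantCoeff_eq]
      refine (isHomogeneous_formOf _).coeff_eq_zero ?_
      rw [map_zero]
      exact Nat.pos_iff_ne_zero.1 (hpos i) |>.symm
    simpa [hη0] using h
  obtain ⟨a₀, ha₀⟩ := Function.ne_iff.1 hη0
  refine ⟨fun l => η a₀ • y (a₀.succAbove l) - η (a₀.succAbove l) • y a₀, fun x hx hlin => ?_⟩
  refine hy x (fun i hi => hx i (lt_of_lt_of_le hi hjj)) ?_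
  set v : Fin (n + 1) → k := fun l => ∑ a, y l a * x a with hv
  have hvl : ∀ l, η a₀ * v (a₀.succAbove l) = η (a₀.succAbove l) * v a₀ := fun l => by
    have h := hlin l
    simp only [Pi.sub_apply, Pi.smul_apply, smul_eq_mul, sub_mul, Finset.sum_sub_distrib, mul_assoc,
      ← Finset.mul_sum] at h
    exact sub_eq_zero.1 h
  have hprop : ∀ l, η a₀ * v l = η l * v a₀ := fun l => by
    by_cases hl : l = a₀
    · rw [hl]
    · obtain ⟨l', rfl⟩ := Fin.exists_succAbove_eq hl
      exact hvl l'
  intro l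
  show v l = 0
  by_contra hne
  have ha : v a₀ ≠ 0 := fun h => hne (by
    have := hprop l
    rw [h, mul_zero, mul_eq_zero] at this
    exact this.resolve_left ha₀)
  refine hη ?_
  have h := hmem ((η a₀ / v a₀) • x) fun i hi => by
    rw [formAt, eval_formOf_smul]
    exact mul_eq_zero_of_right _ (hx i hi)
  rw [← h]
  refine congrArg (fun w => eval w p) (funext fun l => ?_)
  simp only [Pi.smul_apply, smul_eq_mul, mul_left_comm _ (η a₀ / v a₀), ← Finset.mul_sum]
  show η l = η a₀ / v a₀ * v l
  field_simp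
  linear_combination -hprop l

end Groth.Agent.LefCodim
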