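import Mathlib
import Groth.Agent.LefCodim.Chain

/-!
# The locus of tuples of forms with excess intersection is small
-/

noncomputable section

namespace Groth.Agent.LefCodim

open MvPolynomial FanoX.Planes

universe u

variable {k : Type u} [Field k] {m d : ℕ} {deg : Fin d → ℕ}

theorem map_linF {R S : Type*} [CommSemiring R] [CommSemiring S] (f : R →+* S) (v : Fin (m + 1) → R) :
    map f (linF v) = linF fun a => f (v a) := by
  simp [linF, map_sum]

theorem Spans.map {R S : Type u} [CommRing R] [CommRing S] [IsNoetherianRing R] [IsNoetherianRing S]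
    {n mm : ℕ} {ι : Type*} {G : ι → MvPolynomial (Fin mm) R} {y : Fin n → MvPolynomial (Fin mm) R}
    {g : R} {M₀ : ℕ} (h : Spans G y g M₀) (f : R →+* S) :
    Spans (fun i => MvPolynomial.map f (G i)) (fun l => MvPolynomial.map f (y l)) (f g) M₀ := by
  refine ⟨h.1, fun α hα => ?_⟩
  obtain ⟨q, hq, hmem⟩ := h.2 α hα
  refine ⟨fun l => MvPolynomial.map f (q l), fun l => (hq l).map f, ?_⟩
  have := Ideal.mem_map_of_mem (MvPolynomial.map f) hmem
  rw [Ideal.map_span, ← Set.range_comp] at this
  simpa [map_monomial, Function.comp_def] using this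

theorem rename_mem_adjoin {σ τ : Type} (f : σ → τ) (T : Set τ) (hf : ∀ i, f i ∈ T) (p : MvPolynomial σ k) :
    rename f p ∈ Algebra.adjoin k (X '' T : Set (MvPolynomial τ k)) := by
  induction p using MvPolynomial.induction_on with
  | C a => rw [rename_C]; exact Subalgebra.algebraMap_mem _ a
  | add p q hp hq => rw [map_add]; exact add_mem hp hq
  | mul_X p i hp => rw [map_mul, rename_X]; exact mul_mem hp (Algebra.subset_adjoin ⟨_, hf i, rfl⟩)

/-- The coordinates off the level `J`. -/
abbrev Off (m : ℕ) (deg : Fin d → ℕ) (J : Fin d) : Type := {s : Co m deg // s.1 ≠ J}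

/-- The generic forms below the level `J`. -/
def univBelow (k : Type u) [Field k] (m : ℕ) (deg : Fin d → ℕ) (J : Fin d) (i : Below d J) :
    MvPolynomial (Fin (m + 1)) (MvPolynomial (Off m deg J) k) :=
  formOf fun α => X ⟨⟨i.1, α⟩, fun h => by have := i.2; rw [show i.1 = J from h] at this; exact lt_irrefl _ this⟩

theorem map_univBelow (z : Co m deg → k) (J : Fin d) (i : Below d J) :
    map (eval fun s : Off m deg J => z s.1) (univBelow k m deg J i) = formAt z i.1 := by
  rw [univBelow, map_formOf]
  simp [formAt]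

theorem ex_ne_zero {R : Type*} [CommRing R] {x : Fin (m + 1) → R} {M : ℕ} [NoZeroDivisors R]
    (h : ∀ α : Fin (m + 1) →₀ ℕ, α.degree = M → eval x (monomial α (1 : R)) = 0) : x = 0 := by
  funext a
  have := h (Finsupp.single a M) (Finsupp.degree_single _ _)
  rw [← X_pow_eq_monomial, map_pow, eval_X] at this
  exact eq_zero_of_pow_eq_zero this

theorem goodWith_of_spans {z : Co m deg → k} {J : Fin d} {n : ℕ} {y : Fin n → Fin (m + 1) → k}
    {g : MvPolynomial (Off m deg J) k} {M₀ : ℕ}
    (hS : Spans (univBelow k m deg J) (fun l => linF fun a => C (y l a)) g M₀)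
    (hg : eval (fun s : Off m deg J => z s.1) g ≠ 0) : GoodWith deg z (J : ℕ) y := by
  intro x hx hl
  have hS' := hS.map (eval fun s : Off m deg J => z s.1)
  refine ex_ne_zero (M := M₀) fun α hα => ?_
  obtain ⟨q, -, hmem⟩ := hS'.2 α hα
  have hker : Ideal.span (Set.range fun i : Below d J =>
      MvPolynomial.map (eval fun s : Off m deg J => z s.1) (univBelow k m deg J i)) ≤ RingHom.ker (eval x) := by
    refine Ideal.span_le.2 ?_
    rintro _ ⟨i, rfl⟩
    simp only [SetLike.mem_coe, RingHom.mem_ker, map_univBelow]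
    exact hx i.1 i.2
  have h := RingHom.mem_ker.1 (hker hmem)
  rw [map_sub, map_mul, eval_C, map_sum,
    Finset.sum_eq_zero fun l _ => by
      simp only [map_mul, map_linF, eval_linF, eval_C, hl l, mul_zero]] at h
  rw [sub_zero] at h
  exact (mul_eq_zero.1 h).resolve_left hg

/-- The monomials in the linear forms. -/
def yMon {n e : ℕ} (y : Fin (n + 1) → Fin (m + 1) → k) (β : Ex n e) : MvPolynomial (Fin (m + 1)) k :=
  ∏ l, linF (y l) ^ (β : Fin (n + 1) →₀ ℕ) l

theorem isHomogeneous_yMon {n e : ℕ} (y : Fin (n + 1) → Fin (m + 1) → k) (β : Ex n e) :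
    (yMon y β).IsHomogeneous e := by
  have := IsHomogeneous.prod Finset.univ (fun l => linF (y l) ^ (β : Fin (n + 1) →₀ ℕ) l)
    (fun l => 1 * (β : Fin (n + 1) →₀ ℕ) l) fun l _ => (isHomogeneous_linF (y l)).pow _
  simpa [yMon, β.sum_eq] using this

/-- The form in `n + 1` variables with given coefficients, substituted into the linear forms. -/
theorem eval_yMon {n e : ℕ} (y : Fin (n + 1) → Fin (m + 1) → k) (q : Ex n e → k) (x : Fin (m + 1) → k) :
    eval x (∑ β, C (q β) * yMon y β) = eval (fun l => ∑ a, y l a * x a) (formOf q) := by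
  simp only [formOf, yMon, map_sum, map_mul, map_prod, map_pow, eval_C, eval_linF, eval_monomial, one_mul]
  exact Finset.sum_congr rfl fun β _ => by rw [Finsupp.prod_fintype _ _ fun i => pow_zero _]

theorem exists_complement {n e : ℕ} (y : Fin (n + 1) → Fin (m + 1) → k)
    (hli : LinearIndependent k fun β : Ex n e => fun α : Ex m e => coeff (α : Fin (m + 1) →₀ ℕ) (yMon y β)) :
    ∃ J : Finset (Ex m e), J.card + Fintype.card (Ex n e) = Fintype.card (Ex m e) ∧
      ∀ c : Ex m e → k, ∃ (q : Ex n e → k) (r : J → k),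
        ∀ α, c α = ∑ β, q β * coeff (α : Fin (m + 1) →₀ ℕ) (yMon y β) + if h : α ∈ J then r ⟨α, h⟩ else 0 := by
  classical
  set w : Ex n e → (Ex m e → k) := fun β α => coeff (α : Fin (m + 1) →₀ ℕ) (yMon y β)
  set W := Submodule.span k (Set.range w)
  let π := W.mkQ
  let δ : Ex m e → (Ex m e → k) := fun α => Pi.single α 1
  obtain ⟨b, hb, hbspan, hbli⟩ := exists_linearIndependent k (Set.range (π ∘ δ))
  have hall : Submodule.span k (Set.range (π ∘ δ)) = ⊤ := by
    rw [Set.range_comp, Submodule.span_image, eq_top_iff]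
    intro x _
    obtain ⟨v, rfl⟩ := W.mkQ_surjective x
    refine ⟨v, ?_, rfl⟩
    rw [pi_eq_sum_univ' v]
    exact Submodule.sum_mem _ fun α _ => Submodule.smul_mem _ _ (Submodule.subset_span ⟨α, rfl⟩)
  choose f hf using fun x : b => hb x.2
  haveI : Fintype b := (Set.Finite.subset (Set.finite_range _) hb).fintype
  have hinj : Function.Injective f := fun x x' h => Subtype.ext (by rw [← hf x, ← hf x', h])
  let J : Finset (Ex m e) := Finset.univ.image f
  have hW : Module.finrank k W = Fintype.card (Ex n e) := finrank_span_eq_card hli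
  have hQ : Fintype.card b = Module.finrank k ((Ex m e → k) ⧸ W) := by
    rw [← finrank_top k ((Ex m e → k) ⧸ W), ← hall, ← hbspan]
    rw [finrank_span_set_eq_card hbli, Set.toFinset_card]
  refine ⟨J, ?_, fun c => ?_⟩
  · have h := W.finrank_quotient_add_finrank
    rw [← hQ, hW, Module.finrank_fintype_fun_eq_card] at h
    rw [Finset.card_image_of_injective _ hinj, Finset.card_univ]
    exact h
  have hc : π c ∈ Submodule.span k b := by rw [hbspan, hall]; trivial
  rw [show b = Set.range (fun x : b => π (δ (f x))) by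
    ext v
    exact ⟨fun hv => ⟨⟨v, hv⟩, hf ⟨v, hv⟩⟩, fun ⟨x, hx⟩ => by rw [← hx]; dsimp only; rw [show π (δ (f x)) = x.1 from hf x]; exact x.2⟩] at hc
  obtain ⟨a, ha⟩ := (Submodule.mem_span_range_iff_exists_fun k).1 hc
  have hW' : c - ∑ x, a x • δ (f x) ∈ W := by
    rw [← Submodule.Quotient.mk_eq_zero]
    show π _ = 0
    rw [map_sub, map_sum, sub_eq_zero, ← ha]
    simp only [map_smul]
  obtain ⟨q, hq⟩ := (Submodule.mem_span_range_iff_exists_fun k).1 hW'
  refine ⟨q, fun γ => ∑ x, if f x = γ.1 then a x else 0, fun α => ?_⟩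
  have h := congrFun hq α
  simp only [Finset.sum_apply, Pi.smul_apply, Pi.sub_apply, smul_eq_mul, δ, Pi.single_apply, mul_ite, mul_one, mul_zero] at h
  simp only [h, w]
  by_cases hα : α ∈ J
  · simp only [dif_pos hα, eq_comm (a := α)]
    ring
  · rw [dif_neg hα, add_zero]
    have : ∑ x, (if α = f x then a x else 0) = 0 := Finset.sum_eq_zero fun x _ => if_neg fun e =>
      hα (Finset.mem_image.2 ⟨x, Finset.mem_univ x, e.symm⟩)
    rw [this, sub_zero]

/-- The tuples which are good below the level `J`, on a chart, but not at it, form a small set. -/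
theorem piece_small [Infinite k] (hpos : ∀ i, 1 ≤ deg i) (J : Fin d) {n : ℕ}
    (y : Fin (n + 1) → Fin (m + 1) → k) (g : MvPolynomial (Off m deg J) k) (M₀ : ℕ)
    (hS : Spans (univBelow k m deg J) (fun l => linF fun a => C (y l a)) g M₀) {e' : ℕ}
    (he : Fintype.card (Co m deg) ≤ e' + Fintype.card (Ex n (deg J))) :
    SmallSet {z : Co m deg → k | eval (fun s : Off m deg J => z s.1) g ≠ 0 ∧ ¬ Good deg z ((J : ℕ) + 1) n} e' := by
  classical
  set e := deg J
  by_cases hli : LinearIndependent k fun β : Ex n e => fun α : Ex m e => coeff (α : Fin (m + 1) →₀ ℕ) (yMon y β)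
  swap
  · refine smallSet_empty.mono ?_ (Nat.zero_le _)
    rintro z ⟨hg, hbad⟩
    obtain ⟨c, hc, β₀, hβ₀⟩ := Fintype.not_linearIndependent_iff.1 hli
    refine (hbad (good_of_relation (Nat.le_succ _) hpos (goodWith_of_spans hS hg) (p := formOf c)
      (fun h0 => hβ₀ (by rw [← coeff_formOf c β₀, h0, coeff_zero])) fun x _ => ?_)).elim
    rw [← eval_yMon, show ∑ β, C (c β) * yMon y β = 0 from ?_, map_zero]
    rw [eq_formOf _ (IsHomogeneous.sum _ _ _ fun β _ => (isHomogeneous_yMon y β).C_mul _)]
    simp only [formOf]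
    refine Finset.sum_eq_zero fun α _ => ?_
    have := congrFun hc α
    simp only [Finset.sum_apply, Pi.smul_apply, smul_eq_mul, Pi.zero_apply] at this
    rw [coeff_sum]
    simp only [coeff_C_mul]
    rw [this, map_zero, zero_mul]
  obtain ⟨Js, hJs, hdec⟩ := exists_complement y hli
  let σ' : Type := (Off m deg J ⊕ Js) ⊕ Ex n e
  let φ : Co m deg → MvPolynomial σ' k := fun s => if h : s.1 ≠ J then X (Sum.inl (Sum.inl ⟨s, h⟩)) else
    (∑ β, C (∑ α : Ex m e, if (⟨J, α⟩ : Co m deg) = s then coeff (α : Fin (m + 1) →₀ ℕ) (yMon y β) else 0) * X (Sum.inr β)) +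
      ∑ γ : Js, if (⟨J, γ.1⟩ : Co m deg) = s then X (Sum.inl (Sum.inr γ)) else 0
  let val : (σ' → k) → Co m deg → k := fun x s => eval x (φ s)
  have hoff : ∀ (x : σ' → k) (s : Off m deg J), val x s.1 = x (Sum.inl (Sum.inl s)) := fun x s => by
    simp [val, φ, s.2]
  have hJ : ∀ (x : σ' → k) (α : Ex m e), val x ⟨J, α⟩ =
      ∑ β, x (Sum.inr β) * coeff (α : Fin (m + 1) →₀ ℕ) (yMon y β) +
        if h : α ∈ Js then x (Sum.inl (Sum.inr ⟨α, h⟩)) else 0 := fun x α => by
    simp only [val, φ, ne_eq, not_true_eq_false, dite_false, map_add, map_sum, map_mul, eval_C, eval_X,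
      Sigma.mk.injEq, heq_eq_eq, true_and]
    congr 1
    · refine Finset.sum_congr rfl fun β _ => ?_
      rw [Finset.sum_eq_single α (fun b _ hb => by simp [hb]) (by simp)]
      simp [mul_comm]
    · by_cases hα : α ∈ Js
      · rw [dif_pos hα, Finset.sum_eq_single (⟨α, hα⟩ : Js)
          (fun b _ hb => by simp [show ¬ b.1 = α from fun e => hb (Subtype.ext e)]) (by simp)]
        simp
      · rw [dif_neg hα]
        exact Finset.sum_eq_zero fun b _ => by simp [show ¬ b.1 = α from fun e => hα (by rw [← e]; exact b.2)]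
  set D' := {x : σ' → k | eval (fun s : Off m deg J => val x s.1) g ≠ 0 ∧ ¬ Good deg (val x) ((J : ℕ) + 1) n}
  suffices hD' : SmallSet D' e' by
    refine hD'.image φ fun z hz => ?_
    obtain ⟨q, r, hqr⟩ := hdec fun α => z ⟨J, α⟩
    let x : σ' → k := Sum.elim (Sum.elim (fun s => z s.1) r) q
    have hx : val x = z := funext fun s => by
      by_cases h : s.1 = J
      · obtain ⟨i, α⟩ := s
        obtain rfl : i = J := h
        rw [hJ, hqr]
        rfl
      · exact hoff x ⟨s, h⟩
    exact ⟨x, by show _ ∧ _; rw [hx]; exact hz, fun s => (congrFun hx s).symm⟩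
  -- the algebraicity criterion
  let g' : MvPolynomial σ' k := rename (Sum.inl ∘ Sum.inl) g
  let S : Finset σ' := Finset.univ.image Sum.inl
  let f : (Fin (n + 1) → k) → MvPolynomial σ' k := fun η =>
    ∑ β : Ex n e, C (∏ l, η l ^ (β : Fin (n + 1) →₀ ℕ) l) * X (Sum.inr β)
  have hS' : ∀ i : Off m deg J ⊕ Js, Sum.inl i ∈ (S : Set σ') := fun i => by simp [S]
  have hcard : S.card ≤ e' := by
    rw [Finset.card_image_of_injective _ Sum.inl_injective, Finset.card_univ, Fintype.card_sum, Fintype.card_coe]
    have hsplit : Fintype.card (Co m deg) = Fintype.card (Off m deg J) + Fintype.card (Ex m e) := by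
      rw [Fintype.card_congr (Equiv.ofBijective
        (fun α : Ex m e => (⟨⟨J, α⟩, rfl⟩ : {s : Co m deg // s.1 = J})) ⟨fun α α' h => by
          simpa [Sigma.mk.injEq] using h, fun ⟨⟨i, α⟩, h⟩ => by subst h; exact ⟨α, rfl⟩⟩),
        Fintype.card_subtype_compl]
      have := Fintype.card_subtype_le (fun s : Co m deg => s.1 = J)
      omega
    omega
  refine smallSet_of_algebraic hcard (g := g') (fun x hx => ?_) (rename_mem_adjoin _ _ (fun i => hS' _) g) f
    (fun η => ?_) (fun s => ?_)
  · rw [eval_rename]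
    have := hx.1
    simp only [hoff] at this
    exact this
  swap
  · rcases s with i | β
    · exact Algebra.subset_adjoin (Or.inl ⟨_, hS' i, rfl⟩)
    let A := Algebra.adjoin k (X '' (S : Set σ') ∪ Set.range f)
    let L : (Ex n e → k) →ₗ[k] MvPolynomial σ' k := Fintype.linearCombination k fun β => X (Sum.inr β)
    have htop : Submodule.span k (Set.range fun η : Fin (n + 1) → k => fun β : Ex n e =>
        ∏ l, η l ^ (β : Fin (n + 1) →₀ ℕ) l) = ⊤ := by
      by_contra hne
      obtain ⟨l, hl0, hl⟩ := Submodule.exists_le_ker_of_lt_top _ (lt_top_iff_ne_top.2 hne)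
      refine hl0 (LinearMap.ext fun c => ?_)
      have hp : formOf (fun β : Ex n e => l (Pi.single β 1)) = 0 := MvPolynomial.funext fun η => by
        rw [map_zero]
        have := LinearMap.mem_ker.1 (hl (Submodule.subset_span ⟨η, rfl⟩))
        dsimp only at this
        rw [pi_eq_sum_univ' (fun β : Ex n e => ∏ l, η l ^ (β : Fin (n + 1) →₀ ℕ) l), map_sum] at this
        rw [← this]
        simp only [formOf, map_sum, map_mul, eval_C, eval_monomial, one_mul, map_smul, smul_eq_mul,
          Finsupp.prod_fintype _ _ fun i => pow_zero _]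
        exact Finset.sum_congr rfl fun β _ => mul_comm _ _
      have h0 : ∀ β, l (Pi.single β 1) = 0 := fun β => by
        rw [← coeff_formOf (fun β : Ex n e => l (Pi.single β 1)) β, hp, coeff_zero]
      rw [pi_eq_sum_univ' c, map_sum, LinearMap.zero_apply]
      exact Finset.sum_eq_zero fun β _ => by rw [map_smul, h0, smul_zero]
    have hL : ∀ v ∈ Submodule.span k (Set.range fun η : Fin (n + 1) → k => fun β : Ex n e =>
        ∏ l, η l ^ (β : Fin (n + 1) →₀ ℕ) l), L v ∈ A := by
      intro v hv
      induction hv using Submodule.span_induction with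
      | mem v hv =>
        obtain ⟨η, rfl⟩ := hv
        refine Algebra.subset_adjoin (Or.inr ⟨η, ?_⟩)
        simp [L, f, Fintype.linearCombination_apply, smul_eq_C_mul]
      | zero => rw [map_zero]; exact zero_mem A
      | add a b _ _ ha hb => rw [map_add]; exact add_mem ha hb
      | smul a v _ hv => rw [map_smul]; exact Subalgebra.smul_mem A hv a
    have := hL (Pi.single β 1) (htop ▸ Submodule.mem_top)
    simpa [L, Fintype.linearCombination_apply_single] using this
  -- the equation
  let R := MvPolynomial (Off m deg J ⊕ Js) k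
  let inc : MvPolynomial (Off m deg J) k →+* R := (rename Sum.inl).toRingHom
  have hS1 := hS.map inc
  set U : Below d J → MvPolynomial (Fin (m + 1)) R := fun i => map inc (univBelow k m deg J i)
  set Y : Fin (n + 1) → MvPolynomial (Fin (m + 1)) R := fun l => map inc (linF fun a => C (y l a))
  set g₁ := inc g with hg₁
  let r : MvPolynomial (Fin (m + 1)) R := formOf fun α : Ex m e => if h : α ∈ Js then X (Sum.inr ⟨α, h⟩) else 0
  obtain ⟨P, hP, hP0⟩ := exists_monic U Y g₁ M₀ hS1 r (isHomogeneous_formOf _).totalDegree_le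
  set N := P.natDegree
  let c : Fin N → MvPolynomial σ' k := fun i => rename Sum.inl
    ((-1) ^ (N + (i : ℕ)) * g₁ ^ (e * (i : ℕ)) * eval (fun l => (C (η l) : R)) (P.coeff i))
  refine ⟨N, e * N, c, fun i => rename_mem_adjoin _ _ hS' _, fun x hx => ?_⟩
  set z := val x with hz
  have hgz : eval (fun s : Off m deg J => z s.1) g ≠ 0 := hx.1
  let ev : R →+* k := eval fun i => x (Sum.inl i)
  have hevinc : ev.comp inc = eval fun s : Off m deg J => z s.1 := by
    refine RingHom.ext fun p => ?_
    show eval _ (rename Sum.inl p) = eval (fun s : Off m deg J => z s.1) p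
    rw [eval_rename]
    exact congrArg (fun v => eval v p) (funext fun s => (hoff x s).symm)
  set G := ev g₁ with hG
  have hevC : ∀ a, ev (C a) = a := fun a => eval_C a
  let qz : Ex n e → k := fun β => x (Sum.inr β)
  let p : MvPolynomial (Fin (n + 1)) k := (P.map (MvPolynomial.map ev)).eval (C (-(G ^ e)) * formOf qz)
  have hp0 : p = 0 := by
    by_contra hp
    refine hx.2 (good_of_relation (Nat.le_succ _) hpos (goodWith_of_spans hS hgz) hp fun t ht => ?_)
    have hU : Ideal.span (Set.range U) ≤ RingHom.ker ((eval t).comp (MvPolynomial.map ev)) := by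
      refine Ideal.span_le.2 ?_
      rintro _ ⟨i, rfl⟩
      simp only [SetLike.mem_coe, RingHom.mem_ker, RingHom.comp_apply, U, map_map, hevinc, map_univBelow]
      exact ht i.1 (Nat.lt_succ_of_lt i.2)
    have h0 := RingHom.mem_ker.1 (hU hP0)
    rw [Polynomial.hom_eval₂] at h0
    have hcomp : ((eval t).comp (MvPolynomial.map ev)).comp (aeval Y : MvPolynomial (Fin (n + 1)) R →ₐ[R] _).toRingHom =
        (eval fun l => ∑ a, y l a * t a).comp (MvPolynomial.map ev) := by
      refine MvPolynomial.ringHom_ext (fun a => by simp) fun l => ?_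
      simp only [RingHom.comp_apply, AlgHom.toRingHom_eq_coe, RingHom.coe_coe, aeval_X, Y, map_map, hevinc,
        map_linF, eval_linF, map_X, eval_X, eval_C]
      exact Finset.sum_congr rfl fun a _ => by rw [← RingHom.comp_apply ev inc, hevinc, eval_C]
    rw [hcomp] at h0
    have hrt : eval t (map ev r) = -eval (fun l => ∑ a, y l a * t a) (formOf qz) := by
      have h1 := ht J (Nat.lt_succ_self _)
      rw [← eval_yMon]
      rw [← add_eq_zero_iff_eq_neg, ← map_add, ← h1]
      congr 1
      rw [map_formOf, formAt]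
      refine (eq_formOf _ ((isHomogeneous_formOf _).add (IsHomogeneous.sum _ _ _ fun β _ =>
        (isHomogeneous_yMon y β).C_mul _))).trans (congrArg formOf (funext fun α => ?_))
      rw [coeff_add, coeff_formOf, coeff_sum, hJ]
      simp only [coeff_C_mul, qz]
      rw [add_comm]
      congr 1
      split_ifs
      · exact eval_X _
      · exact map_zero _
    have hval : ((eval t).comp (MvPolynomial.map ev)) (C g₁ ^ e * r) =
        eval (fun l => ∑ a, y l a * t a) (C (-(G ^ e)) * formOf qz) := by
      rw [RingHom.comp_apply, map_mul, map_pow, map_C, map_mul, map_pow, eval_C, hrt, map_mul, eval_C]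
      ring
    rw [hval, ← Polynomial.eval₂_map, Polynomial.eval₂_hom] at h0
    exact h0
  have h := congrArg (eval η) hp0
  simp only [p, map_zero] at h
  rw [← Polynomial.eval₂_hom, Polynomial.eval₂_map, Polynomial.eval₂_eq_sum_range, map_mul, eval_C,
    Finset.sum_range_succ, ← Fin.sum_univ_eq_sum_range
      (fun i => ((eval η).comp (MvPolynomial.map ev)) (P.coeff i) * (-(G ^ e) * eval η (formOf qz)) ^ i)] at h
  rw [show P.coeff P.natDegree = 1 from hP.leadingCoeff, map_one, one_mul] at h
  have hf : eval x (f η) = eval η (formOf qz) := by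
    simp only [f, qz, formOf, map_sum, map_mul, eval_C, eval_X, eval_monomial, one_mul,
      Finsupp.prod_fintype _ _ fun i => pow_zero _]
    exact Finset.sum_congr rfl fun β _ => mul_comm _ _
  have hg' : eval x g' = G := by
    rw [hG, hg₁, ← RingHom.comp_apply ev inc, hevinc, eval_rename]
    exact congrArg (fun v => eval v g) (funext fun s => (hoff x s).symm)
  have hci : ∀ i : Fin N, eval x (c i) = (-1) ^ (N + (i : ℕ)) * G ^ (e * (i : ℕ)) *
      ((eval η).comp (MvPolynomial.map ev)) (P.coeff i) := by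
    intro i
    simp only [c, eval_rename]
    show ev _ = _
    rw [map_mul, map_mul, map_pow, map_pow, map_neg, map_one, ← hG]
    congr 1
    generalize P.coeff i = Q
    induction Q using MvPolynomial.induction_on with
    | C a => simp
    | add a b ha hb => simp only [map_add, ha, hb]
    | mul_X a l ha =>
      simp only [map_mul, ha, eval_X, RingHom.comp_apply, map_X]
      rw [hevC]
  rw [hf, hg']
  simp only [hci]
  have h' := congrArg ((-1 : k) ^ N * ·) h
  simp only [mul_zero, mul_add, Finset.mul_sum] at h'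
  refine Eq.trans ?_ h'
  rw [add_comm]
  congr 1
  · exact Finset.sum_congr rfl fun i _ => by
      rw [pow_add, pow_mul, mul_pow, neg_pow (G ^ e)]
      ring
  · rw [show P.natDegree = N from rfl, mul_pow, neg_pow (G ^ e), pow_mul]
    ring_nf
    simp

/-- Tuples good at level `J` with `n + 1` forms but not at the next with `n`. -/
theorem excess_small [IsAlgClosed k] (hpos : ∀ i, 1 ≤ deg i) (J : Fin d) {n e' : ℕ}
    (he : Fintype.card (Co m deg) ≤ e' + Fintype.card (Ex n (deg J))) :
    SmallSet {z : Co m deg → k | Good deg z (J : ℕ) (n + 1) ∧ ¬ Good deg z ((J : ℕ) + 1) n} e' := by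
  classical
  let 𝒢 : Set (MvPolynomial (Off m deg J) k) := {g | ∃ (y : Fin (n + 1) → Fin (m + 1) → k) (M₀ : ℕ),
    Spans (univBelow k m deg J) (fun l => linF fun a => C (y l a)) g M₀}
  obtain ⟨T, hT, hspan⟩ := Submodule.fg_span_iff_fg_span_finset_subset 𝒢 |>.1
    ((isNoetherianRing_iff_ideal_fg _).1 inferInstance (Ideal.span 𝒢))
  choose yT MT hyT using fun g : T => hT g.2
  refine (SmallSet.iUnion (Finset.univ : Finset T) fun g _ =>
    piece_small hpos J (yT g) g.1 (MT g) (hyT g) he).mono ?_ le_rfl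
  rintro z ⟨⟨y, hy⟩, hbad⟩
  obtain ⟨g, M₀, hgz, hS⟩ := exists_g (eval fun s : Off m deg J => z s.1)
    (C : k →+* MvPolynomial (Off m deg J) k) (fun r => eval_C r) (ι := Below d J) (ε := fun i => deg i.1)
    (fun i α => X ⟨⟨i.1, α⟩, fun h => by have := i.2; rw [show i.1 = J from h] at this; exact lt_irrefl _ this⟩) y
    (fun x hx hl => hy x (fun i hi => by simpa [formAt] using hx ⟨i, hi⟩) hl)
  obtain ⟨g', hg'T, hg'z⟩ : ∃ g' ∈ T, eval (fun s : Off m deg J => z s.1) g' ≠ 0 := by
    by_contra! hall
    refine hgz ?_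
    have hle : Ideal.span 𝒢 ≤ RingHom.ker (eval fun s : Off m deg J => z s.1) := by
      show Submodule.span _ 𝒢 ≤ _
      rw [hspan]
      exact Submodule.span_le.2 fun g hg => RingHom.mem_ker.2 (hall g hg)
    exact RingHom.mem_ker.1 (hle (Ideal.subset_span ⟨y, M₀, hS⟩))
  exact Set.mem_biUnion (x := (⟨g', hg'T⟩ : T)) (Finset.mem_univ _) ⟨hg'z, hbad⟩

/-- Good tuples cut out something of the expected dimension. -/
theorem ringKrullDim_le_of_good [IsAlgClosed k] {z : Co m deg → k} {n : ℕ} (h : Good deg z d n) :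
    ringKrullDim (MvPolynomial (Fin (m + 1)) k ⧸ Ideal.span (Set.range (formAt z))) ≤ n := by
  obtain ⟨y, hy⟩ := h
  obtain ⟨g, M₀, hg, hS⟩ := exists_g (RingHom.id k) (RingHom.id k) (fun _ => rfl) (ε := deg)
    (fun i α => z ⟨i, α⟩) y fun x hx hl => hy x (fun i _ => hx i) hl
  refine ringKrullDim_le M₀ _ (fun l => linF (y l)) ⟨hS.1, fun α hα => ?_⟩
  obtain ⟨q, hq, hmem⟩ := hS.2 α hα
  refine ⟨fun l => C g⁻¹ * q l, fun l => (hq l).C_mul _, ?_⟩
  have e : C 1 * monomial α (1 : k) - ∑ l, C g⁻¹ * q l * linF (y l) =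
      C g⁻¹ * (C g * monomial α 1 - ∑ l, q l * linF (y l)) := by
    rw [mul_sub, Finset.mul_sum, ← mul_assoc (C g⁻¹) (C g), ← map_mul, inv_mul_cancel₀ (show g ≠ 0 from hg)]
    simp only [mul_assoc]
  show C 1 * monomial α (1 : k) - ∑ l, C g⁻¹ * q l * linF (y l) ∈ _
  rw [e]
  exact Ideal.mul_mem_left _ _ hmem

/-- The locus of excess dimension. -/
theorem excess_locus_small [IsAlgClosed k] (hpos : ∀ i, 1 ≤ deg i) (hdm : d ≤ m + 1) {e' : ℕ}
    (he : ∀ (J : Fin d) (n : ℕ), n + (J : ℕ) = m →
      Fintype.card (Co m deg) ≤ e' + Fintype.card (Ex n (deg J))) :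
    SmallSet {z : Co m deg → k | ¬ Good deg z d (m + 1 - d)} e' := by
  classical
  refine (SmallSet.iUnion (Finset.univ : Finset (Fin d)) fun J _ =>
    excess_small hpos J (n := m - J) (he J (m - J) (by omega))).mono ?_ le_rfl
  intro z hz
  by_contra hno
  have hstep : ∀ j, j ≤ d → Good deg z j (m + 1 - j) := by
    intro j
    induction j with
    | zero => exact fun _ => good_zero z
    | succ j ih =>
      intro hj
      have h := ih (by omega)
      rw [show m + 1 - j = m - j + 1 by omega] at h
      rw [show m + 1 - (j + 1) = m - j by omega]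
      by_contra hbad
      exact hno (Set.mem_biUnion (x := (⟨j, by omega⟩ : Fin d)) (Finset.mem_univ _) ⟨h, hbad⟩)
  exact hz (hstep d le_rfl)

end Groth.Agent.LefCodim
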