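import Mathlib
import Groth.Agent.LefCodim.Locus

/-!
# Tuples of forms as coordinate spaces
-/

noncomputable section

namespace Groth.Agent.LefCodim

open MvPolynomial FanoX.Planes

universe u

variable {k : Type u} [Field k] {m d : ℕ} {deg : Fin d → ℕ}

theorem card_ex (n e : ℕ) : Fintype.card (Ex n e) = Nat.choose (n + e) n := by
  rw [Fintype.card_coe, Finset.card_finsuppAntidiag_nat_eq_choose, Finset.card_univ,
    Fintype.card_fin, show n + 1 + e - 1 = n + e by omega, Nat.choose_symm_add]

theorem succ_le_choose (m : ℕ) : ∀ j, 1 ≤ j → j ≤ m → m + 1 ≤ (m + 1).choose j := by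
  induction m with
  | zero => intro j h1 h2; omega
  | succ m ih =>
    intro j h1 h2
    obtain ⟨i, rfl⟩ : ∃ i, j = i + 1 := ⟨j - 1, by omega⟩
    rcases (Nat.lt_or_eq_of_le (Nat.le_of_succ_le_succ h2)) with h | h
    · have := ih (i + 1) (by omega) (by omega)
      rw [Nat.choose_succ_succ']
      have : 0 < (m + 1).choose i := Nat.choose_pos (by omega)
      omega
    · subst h
      rw [Nat.choose_symm_of_eq_add (show i + 1 + 1 = (i + 1) + 1 from rfl), Nat.choose_one_right]

/-- The coefficients of a tuple of forms. -/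
def coeffs (k : Type u) [Field k] (m : ℕ) (deg : Fin d → ℕ) :
    ((i : Fin d) → LefPen.Form m k (deg i)) ≃ₗ[k] (Co m deg → k) where
  toFun G s := coeff (s.2 : Fin (m + 1) →₀ ℕ) (G s.1).1
  map_add' G H := funext fun s => by simp
  map_smul' c G := funext fun s => by simp
  invFun z i := ⟨formOf fun α => z ⟨i, α⟩, (mem_homogeneousSubmodule _ _).mpr (isHomogeneous_formOf _)⟩
  left_inv G := funext fun i => Subtype.ext
    (eq_formOf (G i).1 ((mem_homogeneousSubmodule _ _).mp (G i).2)).symm
  right_inv z := funext fun ⟨i, α⟩ => coeff_formOf _ α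

theorem formAt_coeffs (G : (i : Fin d) → LefPen.Form m k (deg i)) (i : Fin d) :
    formAt (coeffs k m deg G) i = (G i).1 :=
  (eq_formOf (G i).1 ((mem_homogeneousSubmodule _ _).mp (G i).2)).symm

/-- The bound on the excess locus for forms of degrees `1, …, d`. -/
theorem excess_standard [IsAlgClosed k] (hd : 1 ≤ d) (hdm : d + 2 ≤ m) :
    ∃ e : ℕ, m + 1 + e ≤ Fintype.card (Co m (fun j : Fin d => j.1 + 1)) ∧
      SmallSet {z : Co m (fun j : Fin d => j.1 + 1) → k |
        ¬ Good (fun j : Fin d => j.1 + 1) z d (m + 1 - d)} e := by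
  have hN : m + 1 ≤ Fintype.card (Co m (fun j : Fin d => j.1 + 1)) := by
    refine le_trans ?_ (Fintype.card_le_of_injective
      (fun α : Ex m ((⟨0, hd⟩ : Fin d).1 + 1) => (⟨⟨0, hd⟩, α⟩ : Co m (fun j : Fin d => j.1 + 1)))
      fun α β h => by simpa [Sigma.mk.injEq] using h)
    rw [card_ex]
    show m + 1 ≤ Nat.choose (m + 1) m
    rw [Nat.choose_succ_self_right]
  refine ⟨_, le_of_eq (Nat.add_sub_cancel' hN), excess_locus_small (fun i => Nat.succ_pos _) (by omega)
    fun J n hn => ?_⟩
  have hc := succ_le_choose m (J.1 + 1) (by omega) (by omega)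
  rw [card_ex, show n + (J.1 + 1) = m + 1 by omega]
  rw [← Nat.choose_symm (show n ≤ m + 1 by omega), show m + 1 - n = J.1 + 1 by omega]
  simp only [Nat.succ_eq_add_one] at *
  omega

end Groth.Agent.LefCodim
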