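import Mathlib
import Groth.Agent.LefCodim.Forms

/-!
# The lines through a point of a general hypersurface
-/

noncomputable section

namespace Groth.Agent.LefCodim

open MvPolynomial FanoX.Planes

universe u

variable {k : Type u} [Field k] {m d : ℕ}

/-- The coefficients of a form. -/
def coeffs₁ (k : Type u) [Field k] (N d : ℕ) : LefPen.Form N k d ≃ₗ[k] (Ex N d → k) where
  toFun G α := coeff (α : Fin (N + 1) →₀ ℕ) G.1
  map_add' G H := funext fun s => by simp
  map_smul' c G := funext fun s => by simp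
  invFun z := ⟨formOf z, (mem_homogeneousSubmodule _ _).mpr (isHomogeneous_formOf _)⟩
  left_inv G := Subtype.ext (eq_formOf G.1 ((mem_homogeneousSubmodule _ _).mp G.2)).symm
  right_inv z := funext fun α => coeff_formOf _ α

theorem eval_aeval_eq {σ τ : Type*} (g : σ → MvPolynomial τ k) (x : τ → k) (f : MvPolynomial σ k) :
    eval x (aeval g f) = eval (fun i => eval x (g i)) f := by
  induction f using MvPolynomial.induction_on with
  | C a => simp
  | add p q hp hq => simp only [map_add, hp, hq]
  | mul_X p i hp => simp only [map_mul, hp]; simp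

/-- The zero locus of forms cutting out the expected dimension. -/
theorem zeroSet_small {σ : Type} [Fintype σ] {ι : Type*} (G : ι → MvPolynomial σ k) {n : ℕ}
    (h : ringKrullDim (MvPolynomial σ k ⧸ Ideal.span (Set.range G)) ≤ n) :
    SmallSet {x : σ → k | ∀ i, eval x (G i) = 0} n := by
  intro P hP hle
  haveI := hP
  obtain ⟨c, hc, hct⟩ := VarDim.exists_dim_eq_trdeg k (MvPolynomial σ k ⧸ P)
  have hG : Ideal.span (Set.range G) ≤ P := Ideal.span_le.2 fun f ⟨i, hi⟩ =>
    hi ▸ hle (fun x hx => hx i)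
  have h' := (ringKrullDim_le_of_surjective _ (Ideal.Quotient.factor_surjective hG)).trans h
  rw [hc] at h'
  rw [hct]
  exact_mod_cast h'

/-- The degrees of the expansion at a point. -/
abbrev stdDeg (d : ℕ) : Fin d → ℕ := fun j => j.1 + 1

theorem card_co_lt : Fintype.card (Co m (stdDeg d)) < Fintype.card (Ex (m + 1) d) := by
  let f : Co m (stdDeg d) → Ex (m + 1) d := fun s =>
    ⟨Finsupp.cons (d - 1 - s.1.1) (s.2 : Fin (m + 1) →₀ ℕ), mem_ex (by
      have := s.1.2
      rw [Fin.sum_univ_succ, Finsupp.cons_zero]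
      simp only [Finsupp.cons_succ, s.2.sum_eq]
      show d - 1 - s.1.1 + (s.1.1 + 1) = d
      omega)⟩
  refine Fintype.card_lt_of_injective_not_surjective f (fun a b h => ?_) fun h => ?_
  · obtain ⟨i, α⟩ := a
    obtain ⟨j, β⟩ := b
    have h' := congrArg Subtype.val h
    have h0 := DFunLike.congr_fun h' 0
    simp only [f, Finsupp.cons_zero] at h0
    obtain rfl : i = j := Fin.ext (by omega)
    simp only [Sigma.mk.injEq, heq_eq_eq, true_and]
    refine Subtype.ext (Finsupp.ext fun l => ?_)
    have := DFunLike.congr_fun h' l.succ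
    simpa [f] using this
  · obtain ⟨s, hs⟩ := h ⟨Finsupp.single 0 d, mem_ex (by simp [Finsupp.single_apply])⟩
    have h1 := DFunLike.congr_fun (congrArg Subtype.val hs) 0
    simp [f] at h1
    have := s.1.2
    omega

/-- The form with a given expansion at a point. -/
def expand {R : Type*} [CommRing R] (i₀ : Fin (m + 2)) (w : Fin (m + 1) → R)
    (z : Co m (stdDeg d) → R) : MvPolynomial (Fin (m + 2)) R :=
  ∑ j : Fin d, X i₀ ^ (d - 1 - j.1) * ∑ β : Ex m (stdDeg d j), C (z ⟨j, β⟩) *
    ∏ l, (X (i₀.succAbove l) - C (w l) * X i₀) ^ (β : Fin (m + 1) →₀ ℕ) l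

theorem map_expand {R S : Type*} [CommRing R] [CommRing S] (f : R →+* S) (i₀ : Fin (m + 2))
    (w : Fin (m + 1) → R) (z : Co m (stdDeg d) → R) :
    map f (expand i₀ w z) = expand i₀ (fun l => f (w l)) fun s => f (z s) := by
  simp [expand, map_sum, map_prod]

theorem eval_expand (i₀ : Fin (m + 2)) (w : Fin (m + 1) → k) (z : Co m (stdDeg d) → k) (x : Fin (m + 2) → k) :
    eval x (expand i₀ w z) = ∑ j : Fin d, x i₀ ^ (d - 1 - j.1) *
      eval (fun l => x (i₀.succAbove l) - w l * x i₀) (formAt z j) := by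
  simp only [expand, map_sum, map_mul, map_pow, map_prod, map_sub, eval_C, eval_X, formAt, formOf,
    eval_monomial, one_mul, Finsupp.prod_fintype _ _ fun i => pow_zero _]

set_option maxHeartbeats 400000 in
/-- Forms through a point have an expansion at it. -/
theorem exists_expand [Infinite k] (i₀ : Fin (m + 2)) (w : Fin (m + 1) → k) (Φ : LefPen.Form (m + 1) k d)
    (hv : eval (i₀.insertNth (1 : k) w) Φ.1 = 0) :
    ∃ z : Co m (stdDeg d) → k, Φ.1 = expand i₀ w z := by
  classical
  let ξ : Fin (m + 2) → MvPolynomial (Fin (m + 2)) k :=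
    i₀.insertNth (X 0) fun l => X l.succ + C (w l) * X 0
  set Ψ := aeval ξ Φ.1
  have hξ : ∀ i, (ξ i).IsHomogeneous 1 := fun i => by
    rcases Fin.eq_self_or_eq_succAbove i₀ i with rfl | ⟨l, rfl⟩
    · simp only [ξ, Fin.insertNth_apply_same]; exact isHomogeneous_X k _
    · simp only [ξ, Fin.insertNth_apply_succAbove]
      exact (isHomogeneous_X k _).add ((isHomogeneous_X k _).C_mul _)
  have hΨ : Ψ.IsHomogeneous d := by
    have := ((mem_homogeneousSubmodule _ _).mp Φ.2).aeval ξ hξ
    rwa [one_mul] at this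
  set P := finSuccEquiv k (m + 1) Ψ
  have hP : ∀ i j, i + j = d → (P.coeff i).IsHomogeneous j := fun i j h =>
    hΨ.finSuccEquiv_coeff_isHomogeneous i j h
  have hdeg : P.natDegree ≤ d := by
    rw [natDegree_finSuccEquiv]
    refine degreeOf_le_iff.2 fun α hα => ?_
    have := le_totalDegree hα
    have h2 := hΨ.totalDegree_le
    have h3 : α 0 ≤ α.sum fun _ e => e := by
      rw [Finsupp.sum_fintype _ _ fun _ => rfl]
      exact Finset.single_le_sum (fun i _ => Nat.zero_le _) (Finset.mem_univ 0)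
    omega
  have heval : ∀ (s : k) (u : Fin (m + 1) → k), eval (Fin.cons s u) Ψ =
      eval (i₀.insertNth s fun l => u l + w l * s) Φ.1 := fun s u => by
    rw [eval_aeval_eq]
    refine congrArg (fun f => eval f Φ.1) (funext fun i => ?_)
    rcases Fin.eq_self_or_eq_succAbove i₀ i with rfl | ⟨l, rfl⟩
    · simp [ξ]
    · simp [ξ]
  have htop : P.coeff d = 0 := by
    have h := hP d 0 (by omega)
    rw [← totalDegree_zero_iff_isHomogeneous, totalDegree_eq_zero_iff_eq_C] at h
    rw [h]
    have e := heval 1 0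
    simp only [Pi.zero_apply, zero_add, mul_one] at e
    rw [hv, eval_eq_eval_mv_eval', Polynomial.eval_one_map] at e
    suffices hc : coeff 0 (P.coeff d) = 0 by rw [hc, map_zero]
    have hsum : P.eval 1 = ∑ i ∈ Finset.range (d + 1), P.coeff i := by
      rw [Polynomial.eval_eq_sum_range' (Nat.lt_succ_of_le hdeg)]
      simp
    rw [hsum, map_sum, Finset.sum_eq_single d] at e
    · rw [h, eval_C] at e
      exact e
    · intro i hi hne
      rw [eval_zero, constantCoeff_eq]
      refine (hP i (d - i) (by simp at hi; omega)).coeff_eq_zero ?_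
      rw [map_zero]
      simp at hi
      omega
    · simp
  refine ⟨fun s => coeff (s.2 : Fin (m + 1) →₀ ℕ) (P.coeff (d - 1 - s.1.1)), MvPolynomial.funext fun x => ?_⟩
  have hx : eval x Φ.1 = eval (Fin.cons (x i₀) fun l => x (i₀.succAbove l) - w l * x i₀) Ψ := by
    rw [heval]
    refine congrArg (fun f => eval f Φ.1) (funext fun i => ?_)
    rcases Fin.eq_self_or_eq_succAbove i₀ i with rfl | ⟨l, rfl⟩
    · simp
    · simp
  rw [hx, eval_eq_eval_mv_eval', eval_expand]
  generalize (fun l => x (i₀.succAbove l) - w l * x i₀) = u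
  rw [show (finSuccEquiv k (m + 1)) Ψ = P from rfl, Polynomial.eval_map, Polynomial.eval₂_eq_sum_range'
    _ (Nat.lt_succ_of_le hdeg), Finset.sum_range_succ, htop, map_zero, zero_mul, add_zero,
    ← Finset.sum_range_reflect, ← Fin.sum_univ_eq_sum_range (fun i => eval u (P.coeff (d - 1 - i)) * x i₀ ^ (d - 1 - i))]
  refine Finset.sum_congr rfl fun j _ => ?_
  have hj : (P.coeff (d - 1 - j.1)).IsHomogeneous (stdDeg d j) :=
    hP (d - 1 - j.1) (j.1 + 1) (by omega)
  have e := eq_formOf (e := stdDeg d j) (P.coeff (d - 1 - j.1)) hj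
  unfold formAt
  rw [← e, mul_comm]

/-- The cone of lines through a point with good expansion has the expected dimension. -/
theorem cone_small [IsAlgClosed k] (hdm : d + 2 ≤ m) (i₀ : Fin (m + 2)) (w : Fin (m + 1) → k)
    (z : Co m (stdDeg d) → k) (hz : Good (stdDeg d) z d (m + 1 - d)) :
    SmallSet {x : Fin (m + 2) → k |
      ∀ s t : k, eval (s • i₀.insertNth (1 : k) w + t • x) (expand i₀ w z) = 0} (m + 2 - d) := by
  classical
  have hV := zeroSet_small _ (ringKrullDim_le_of_good hz)
  have hprod := hV.prod (τ := Unit)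
  rw [Fintype.card_unit, show m + 1 - d + 1 = m + 2 - d by omega] at hprod
  refine hprod.image (i₀.insertNth (X (Sum.inr ())) fun l => X (Sum.inl l) + C (w l) * X (Sum.inr ())) ?_
  intro x hx
  refine ⟨Sum.elim (fun l => x (i₀.succAbove l) - w l * x i₀) fun _ => x i₀, fun j => ?_, fun i => ?_⟩
  · show eval (fun l => x (i₀.succAbove l) - w l * x i₀) (formAt z j) = 0
    set u := fun l => x (i₀.succAbove l) - w l * x i₀
    let p : Polynomial k := ∑ i : Fin d, Polynomial.C (eval u (formAt z i)) * Polynomial.X ^ (d - 1 - i.1)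
    have hp : p = 0 := Polynomial.funext fun s => by
      have h := hx (s - x i₀) 1
      rw [eval_expand] at h
      simp only [Pi.add_apply, Pi.smul_apply, smul_eq_mul, Fin.insertNth_apply_same,
        Fin.insertNth_apply_succAbove, mul_one, one_mul, sub_add_cancel] at h
      have e : (fun l => (s - x i₀) * w l + x (i₀.succAbove l) - w l * s) = u := funext fun l => by
        simp only [u]; ring
      rw [e] at h
      rw [Polynomial.eval_zero, ← h]
      simp only [p, Polynomial.eval_finsetSum, Polynomial.eval_mul, Polynomial.eval_C, Polynomial.eval_pow,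
        Polynomial.eval_X]
      exact Finset.sum_congr rfl fun i _ => mul_comm _ _
    have h := congrArg (Polynomial.coeff · (d - 1 - j.1)) hp
    simp only [p, Polynomial.finsetSum_coeff, Polynomial.coeff_C_mul, Polynomial.coeff_X_pow,
      Polynomial.coeff_zero] at h
    rw [Finset.sum_eq_single j (fun i _ hi => by
      rw [if_neg (fun e => hi (Fin.ext (by have := i.2; have := j.2; omega))), mul_zero]) (by simp)] at h
    simpa using h
  · rcases Fin.eq_self_or_eq_succAbove i₀ i with rfl | ⟨l, rfl⟩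
    · simp
    · simp

/-- The lines through each point of a general hypersurface. -/
theorem cone_generic [IsAlgClosed k] (hd : 1 ≤ d) (hdm : d + 2 ≤ m) :
    LefPen.IsGeneric k {Φ : LefPen.Form (m + 1) k d |
      ∀ v : Fin (m + 2) → k, v ≠ 0 → eval v Φ.1 = 0 →
        LefPen.CodimGE k {x : Fin (m + 2) → k | ∀ s t : k, eval (s • v + t • x) Φ.1 = 0} d} := by
  classical
  obtain ⟨e, he, hsmall⟩ := excess_standard (k := k) hd hdm
  set D := {z : Co m (stdDeg d) → k | ¬ Good (stdDeg d) z d (m + 1 - d)}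
  have hE : ∀ i₀ : Fin (m + 2), SmallSet {c : Ex (m + 1) d → k | ∃ (z : Co m (stdDeg d) → k)
      (w : Fin (m + 1) → k), z ∈ D ∧ formOf c = expand i₀ w z} (e + (m + 1)) := by
    intro i₀
    have hprod := hsmall.prod (τ := Fin (m + 1))
    rw [Fintype.card_fin] at hprod
    refine hprod.image (fun α : Ex (m + 1) d => coeff (α : Fin (m + 2) →₀ ℕ)
      (expand (R := MvPolynomial (Co m (stdDeg d) ⊕ Fin (m + 1)) k) i₀ (fun l => X (Sum.inr l)) fun s => X (Sum.inl s))) ?_
    rintro c ⟨z, w, hz, hc⟩
    refine ⟨Sum.elim z w, hz, fun α => ?_⟩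
    rw [← coeff_formOf c α, hc, ← coeff_map, map_expand]
    simp
  refine isGeneric_of_small (coeffs₁ k (m + 1) d) (SmallSet.iUnion Finset.univ fun i₀ _ => hE i₀) ?_ ?_
  · have := card_co_lt (m := m) (d := d)
    change e + (m + 1) < Fintype.card (Ex (m + 1) d)
    have : m + 1 + e ≤ Fintype.card (Co m (stdDeg d)) := he
    omega
  intro Φ hΦ v hv0 hv
  obtain ⟨i₀, hi₀⟩ := Function.ne_iff.1 hv0
  set c := v i₀
  let w : Fin (m + 1) → k := fun l => v (i₀.succAbove l) / c
  have hv' : v = c • i₀.insertNth (1 : k) w := funext fun i => by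
    rcases Fin.eq_self_or_eq_succAbove i₀ i with rfl | ⟨l, rfl⟩
    · simp [c]
    · simp only [Pi.smul_apply, Fin.insertNth_apply_succAbove, smul_eq_mul, w]
      rw [mul_div_cancel₀ _ hi₀]
  have hΦ1 : eval (i₀.insertNth (1 : k) w) Φ.1 = 0 := by
    have h := eval_formOf_smul (coeffs₁ k (m + 1) d Φ) c (i₀.insertNth (1 : k) w)
    rw [show formOf (coeffs₁ k (m + 1) d Φ) = Φ.1 from
      (eq_formOf Φ.1 ((mem_homogeneousSubmodule _ _).mp Φ.2)).symm, ← hv', hv] at h
    exact (mul_eq_zero.1 h.symm).resolve_left (pow_ne_zero _ hi₀)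
  obtain ⟨z, hz⟩ := exists_expand i₀ w Φ hΦ1
  have hgood : Good (stdDeg d) z d (m + 1 - d) := by
    by_contra hbad
    refine hΦ (Set.mem_biUnion (x := i₀) (Finset.mem_univ _) ⟨z, w, hbad, ?_⟩)
    rw [← hz]
    exact (eq_formOf Φ.1 ((mem_homogeneousSubmodule _ _).mp Φ.2)).symm
  refine codimGE_of_small (LinearEquiv.refl k (Fin (m + 2) → k)) (e := m + 2 - d)
    ((cone_small hdm i₀ w z hgood).mono ?_ le_rfl) (by rw [Fintype.card_fin]; omega)
  rintro _ ⟨x, hx, rfl⟩ s t
  have h := hx (s / c) t
  rw [hz, hv', smul_smul, div_mul_cancel₀ _ hi₀] at h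
  exact h

end Groth.Agent.LefCodim
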